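import Cfsg.Agent.QuadF.Std

/-!
# Orthogonal bases and discriminants in odd characteristic
-/

set_option autoImplicit false

namespace CL.QuadF

open Module QuadraticMap

variable {F V : Type*} [Field F] [AddCommGroup V] [Module F V]

section OrthFam

variable {Q : QuadraticForm F V} {ι : Type*}

theorem polar_sum_orth [Fintype ι] {v : ι → V} (hv : ∀ i j, i ≠ j → polar Q (v i) (v j) = 0)
    (c : ι → F) (j : ι) : polar Q (v j) (∑ i, c i • v i) = c j * (2 * Q (v j)) := by
  classical
  rw [← polarBilin_apply_apply, map_sum, Finset.sum_eq_single j]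
  · simp
  · intro i _ hi
    simp [hv j i hi.symm]
  · simp

theorem linearIndependent_of_orth [Fintype ι] (h2 : (2 : F) ≠ 0) {v : ι → V}
    (hv : ∀ i j, i ≠ j → polar Q (v i) (v j) = 0) (hv0 : ∀ i, Q (v i) ≠ 0) :
    LinearIndependent F v := by
  rw [Fintype.linearIndependent_iff]
  intro c hc j
  have := polar_sum_orth hv c j
  rw [hc, polar_zero_right] at this
  exact (mul_eq_zero.1 this.symm).resolve_right (mul_ne_zero h2 (hv0 j))

theorem disjoint_perp_of_orth [Fintype ι] (h2 : (2 : F) ≠ 0) {v : ι → V}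
    (hv : ∀ i j, i ≠ j → polar Q (v i) (v j) = 0) (hv0 : ∀ i, Q (v i) ≠ 0) :
    Disjoint (Submodule.span F (Set.range v)) (perp Q (Submodule.span F (Set.range v))) := by
  rw [Submodule.disjoint_def]
  intro x hx hx'
  obtain ⟨c, rfl⟩ := (Submodule.mem_span_range_iff_exists_fun F).1 hx
  refine Finset.sum_eq_zero fun j _ => ?_
  have := polar_sum_orth hv c j
  rw [mem_perp_span.1 hx' _ ⟨j, rfl⟩] at this
  rw [(mul_eq_zero.1 this.symm).resolve_right (mul_ne_zero h2 (hv0 j)), zero_smul]

theorem map_sum_orth {v : ι → V} (hv : ∀ i j, i ≠ j → polar Q (v i) (v j) = 0)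
    (c : ι → F) (s : Finset ι) : Q (∑ i ∈ s, c i • v i) = ∑ i ∈ s, c i ^ 2 * Q (v i) := by
  classical
  induction s using Finset.induction_on with
  | empty => simp
  | insert j s hj ih =>
    rw [Finset.sum_insert hj, Finset.sum_insert hj, map_add_polar, ih, map_smul_sq,
      polar_smul_left, ← polarBilin_apply_apply, map_sum,
      Finset.sum_eq_zero (f := fun x => polarBilin Q (v j) (c x • v x)), smul_zero, add_zero]
    intro i hi
    have : j ≠ i := fun h => hj (h ▸ hi)
    simp [hv j i this]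

theorem map_ne_zero_of_orth_basis (hQ : (polarBilin Q).Nondegenerate) (b : Basis ι F V)
    (hb : ∀ i j, i ≠ j → polar Q (b i) (b j) = 0) (i : ι) : Q (b i) ≠ 0 := by
  intro h0
  refine b.ne_zero i (eq_zero_of_polar hQ fun y => ?_)
  have : polarBilin Q (b i) = 0 := b.ext fun j => by
    by_cases h : i = j
    · subst h; simp [h0]
    · simp [hb i j h]
  rw [← polarBilin_apply_apply, this, LinearMap.zero_apply]

theorem nondeg_of_orth_basis [Finite ι] (h2 : (2 : F) ≠ 0) (b : Basis ι F V)
    (hb : ∀ i j, i ≠ j → polar Q (b i) (b j) = 0) (hb0 : ∀ i, Q (b i) ≠ 0) :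
    (polarBilin Q).Nondegenerate := by
  have := Fintype.ofFinite ι
  have h := disjoint_perp_of_orth h2 hb hb0
  rw [b.span_eq] at h
  rw [nondeg_iff]
  intro x hx
  exact Submodule.disjoint_def.1 h x trivial (mem_perp'.2 fun y _ => hx y)

/-- In characteristic not two there is an orthogonal basis. -/
theorem exists_orth_basis [FiniteDimensional F V] (h2 : (2 : F) ≠ 0) (Q : QuadraticForm F V) :
    ∃ b : Basis (Fin (finrank F V)) F V, ∀ i j, i ≠ j → polar Q (b i) (b j) = 0 := by
  have : Invertible (2 : F) := invertibleOfNonzero h2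
  obtain ⟨b, hb⟩ := LinearMap.BilinForm.exists_orthogonal_basis (B := polarBilin Q)
    ⟨fun x y => polar_comm Q x y⟩
  exact ⟨b, fun i j h => hb h⟩

/-- The discriminant modulo squares does not depend on the orthogonal basis. -/
theorem isSquare_prod_mul_prod [Fintype ι] {κ : Type*} [Fintype κ] (h2 : (2 : F) ≠ 0)
    (b : Basis ι F V) (c : Basis κ F V) (hb : ∀ i j, i ≠ j → polar Q (b i) (b j) = 0)
    (hc : ∀ i j, i ≠ j → polar Q (c i) (c j) = 0) :
    IsSquare ((∏ i, Q (b i)) * ∏ j, Q (c j)) := by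
  classical
  let σ := c.indexEquiv b
  have hprod : ∏ j, Q (c j) = ∏ i, Q (c.reindex σ i) := by
    rw [← Equiv.prod_comp σ]; simp
  have hc' : ∀ i j, i ≠ j → polar Q (c.reindex σ i) (c.reindex σ j) = 0 := fun i j h => by
    simpa using hc _ _ (σ.symm.injective.ne h)
  rw [hprod]
  set d := c.reindex σ
  have key : ∀ (e : Basis ι F V), (∀ i j, i ≠ j → polar Q (e i) (e j) = 0) →
      (LinearMap.BilinForm.toMatrix e (polarBilin Q)).det
        = 2 ^ Fintype.card ι * ∏ i, Q (e i) := by
    intro e he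
    have : LinearMap.BilinForm.toMatrix e (polarBilin Q)
        = Matrix.diagonal fun i => 2 * Q (e i) := by
      ext i j
      rw [LinearMap.BilinForm.toMatrix_apply, polarBilin_apply_apply]
      by_cases h : i = j
      · subst h; simp
      · simp [h, he i j h]
    rw [this, Matrix.det_diagonal, Finset.prod_mul_distrib]
    simp
  have h1 := congrArg Matrix.det
    (LinearMap.BilinForm.toMatrix_mul_basis_toMatrix b d (polarBilin Q))
  rw [Matrix.det_mul, Matrix.det_mul, Matrix.det_transpose, key b hb, key d hc'] at h1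
  refine ⟨(b.toMatrix d).det * ∏ i, Q (b i), ?_⟩
  have h3 : ∏ i, Q (d i) = (b.toMatrix d).det * (b.toMatrix d).det * ∏ i, Q (b i) := by
    apply mul_left_cancel₀ (pow_ne_zero (Fintype.card ι) h2)
    linear_combination -h1
  rw [h3]; ring

end OrthFam

section FinDim

variable [FiniteDimensional F V] {Q : QuadraticForm F V}

theorem exists_orthonormal_family [Finite F] (h2 : (2 : F) ≠ 0)
    (hQ : (polarBilin Q).Nondegenerate) (k : ℕ) (hk : k + 1 ≤ finrank F V) :
    ∃ v : Fin k → V, (∀ i j, i ≠ j → polar Q (v i) (v j) = 0) ∧ ∀ i, Q (v i) = 1 := by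
  induction k with
  | zero => exact ⟨Fin.elim0, fun i => i.elim0, fun i => i.elim0⟩
  | succ k ih =>
    obtain ⟨v, hv, hv1⟩ := ih (by omega)
    have hv0 : ∀ i, Q (v i) ≠ 0 := fun i => by rw [hv1]; exact one_ne_zero
    have hd := disjoint_perp_of_orth h2 hv hv0
    have hdim := finrank_add_finrank_perp hQ (Submodule.span F (Set.range v))
    rw [finrank_span_eq_card (linearIndependent_of_orth h2 hv hv0), Fintype.card_fin] at hdim
    obtain ⟨u, hu, hu1⟩ := exists_map_eq_mem (Q := Q) (X := perp Q (Submodule.span F (Set.range v)))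
      (by rw [perp_perp hQ]; exact hd.symm) (by omega) 1
    have hvu : ∀ i, polar Q (v i) u = 0 := fun i => mem_perp_span.1 hu _ ⟨i, rfl⟩
    refine ⟨Fin.snoc v u, fun i j hij => ?_, fun i => ?_⟩
    · induction i using Fin.lastCases <;> induction j using Fin.lastCases
      · exact absurd rfl hij
      · simp [polar_comm Q u, hvu]
      · simp [hvu]
      · simpa using hv _ _ fun h => hij (by rw [h])
    · induction i using Fin.lastCases
      · simpa using hu1
      · simpa using hv1 _

/-- Classification in odd characteristic: an orthogonal basis with norms `1, …, 1, d` where `d` is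
`1` or a given non-square. -/
theorem exists_orth_basis_one_last [Finite F] (h2 : (2 : F) ≠ 0)
    (hQ : (polarBilin Q).Nondegenerate) {n : ℕ} (hn : finrank F V = n + 1) {α : F}
    (hα : ¬ IsSquare α) :
    ∃ b : Basis (Fin (n + 1)) F V, (∀ i j, i ≠ j → polar Q (b i) (b j) = 0) ∧
      (∀ i, i ≠ Fin.last n → Q (b i) = 1) ∧ (Q (b (Fin.last n)) = 1 ∨ Q (b (Fin.last n)) = α) := by
  obtain ⟨v, hv, hv1⟩ := exists_orthonormal_family h2 hQ n hn.ge
  have hα0 : α ≠ 0 := by rintro rfl; exact hα IsSquare.zero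
  have hv0 : ∀ i, Q (v i) ≠ 0 := fun i => by rw [hv1]; exact one_ne_zero
  have hd := disjoint_perp_of_orth h2 hv hv0
  have hdim := finrank_add_finrank_perp hQ (Submodule.span F (Set.range v))
  rw [finrank_span_eq_card (linearIndependent_of_orth h2 hv hv0), Fintype.card_fin] at hdim
  have : Nontrivial (perp Q (Submodule.span F (Set.range v))) :=
    Module.nontrivial_of_finrank_pos (R := F) (by omega)
  obtain ⟨w, hw⟩ := exists_nonsingular (nondeg_restr_perp hQ hd)
  rw [restr_apply] at hw
  obtain ⟨u, hu, hu1⟩ : ∃ u ∈ perp Q (Submodule.span F (Set.range v)), Q u = 1 ∨ Q u = α := by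
    by_cases hs : IsSquare (Q w)
    · obtain ⟨r, hr⟩ := hs
      have hr0 : r ≠ 0 := by rintro rfl; exact hw (by simpa using hr)
      refine ⟨r⁻¹ • (w : V), Submodule.smul_mem _ _ w.2, Or.inl ?_⟩
      rw [map_smul_sq, hr]; field_simp
    · obtain ⟨r, hr⟩ := isSquare_mul_of_not_isSquare hs hα
      refine ⟨(r / Q w) • (w : V), Submodule.smul_mem _ _ w.2, Or.inr ?_⟩
      rw [map_smul_sq]; field_simp; linear_combination -hr
  have hu0 : Q u ≠ 0 := by
    rcases hu1 with h | h <;> rw [h]
    exacts [one_ne_zero, hα0]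
  have hvu : ∀ i, polar Q (v i) u = 0 := fun i => mem_perp_span.1 hu _ ⟨i, rfl⟩
  have horth : ∀ i j, i ≠ j →
      polar Q ((Fin.snoc v u : Fin (n + 1) → V) i) ((Fin.snoc v u : Fin (n + 1) → V) j) = 0 := by
    intro i j hij
    induction i using Fin.lastCases <;> induction j using Fin.lastCases
    · exact absurd rfl hij
    · simp [polar_comm Q u, hvu]
    · simp [hvu]
    · simpa using hv _ _ fun h => hij (by rw [h])
  have hne : ∀ i, Q ((Fin.snoc v u : Fin (n + 1) → V) i) ≠ 0 := by
    intro i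
    induction i using Fin.lastCases
    · simpa using hu0
    · simpa using hv0 _
  refine ⟨basisOfLinearIndependentOfCardEqFinrank (linearIndependent_of_orth h2 horth hne)
    (by simp [hn]), ?_, fun i hi => ?_, ?_⟩
  · simpa using horth
  · induction i using Fin.lastCases
    · exact absurd rfl hi
    · simpa using hv1 _
  · simpa using hu1

/-- An orthogonal basis of the hyperbolic space with product of norms `(-1) ^ m`. -/
theorem exists_orth_basis_qPlus (h2 : (2 : F) ≠ 0) (m : ℕ) :
    ∃ b : Basis (Fin m ⊕ Fin m) F (Fin m ⊕ Fin m → F),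
      (∀ i j, i ≠ j → polar (qPlus m F) (b i) (b j) = 0) ∧ ∏ i, qPlus m F (b i) = (-1) ^ m := by
  let v : Fin m ⊕ Fin m → (Fin m ⊕ Fin m → F) :=
    Sum.elim (fun i => Pi.single (.inl i) 1 + Pi.single (.inr i) 1)
      (fun i => Pi.single (.inl i) 1 - Pi.single (.inr i) 1)
  have horth : ∀ i j, i ≠ j → polar (qPlus m F) (v i) (v j) = 0 := by
    rintro (i | i) (j | j) h <;>
      simp [v, polar_qPlus, Pi.single_apply] <;> aesop
  have h1 : ∀ i, qPlus m F (v (.inl i)) = 1 := fun i => by simp [v, qPlus_apply, Pi.single_apply]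
  have h1' : ∀ i, qPlus m F (v (.inr i)) = -1 := fun i => by
    simp [v, qPlus_apply, Pi.single_apply]
  have hne : ∀ i, qPlus m F (v i) ≠ 0 := by
    rintro (i | i)
    · rw [h1]; exact one_ne_zero
    · rw [h1']; simp
  refine ⟨basisOfLinearIndependentOfCardEqFinrank' _ (linearIndependent_of_orth h2 horth hne)
    (by simp), ?_, ?_⟩
  · simpa only [coe_basisOfLinearIndependentOfCardEqFinrank'] using horth
  · simp only [coe_basisOfLinearIndependentOfCardEqFinrank', Fintype.prod_sum_type, h1, h1']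
    simp

/-- An orthogonal basis of the standard minus-type space with product of norms
`(-1) ^ (m + 1) * (a ^ 2 - 4 * b)`. -/
theorem exists_orth_basis_qMinus (h2 : (2 : F) ≠ 0) (m : ℕ) {a b : F} (hab : a ^ 2 - 4 * b ≠ 0) :
    ∃ c : Basis ((Fin m ⊕ Fin m) ⊕ Fin 2) F ((Fin m ⊕ Fin m) ⊕ Fin 2 → F),
      (∀ i j, i ≠ j → polar (qMinus m F a b) (c i) (c j) = 0) ∧
        ∏ i, qMinus m F a b (c i) = (-1) ^ (m + 1) * (a ^ 2 - 4 * b) := by
  let v : (Fin m ⊕ Fin m) ⊕ Fin 2 → ((Fin m ⊕ Fin m) ⊕ Fin 2 → F) :=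
    Sum.elim (Sum.elim (fun i => Pi.single (.inl (.inl i)) 1 + Pi.single (.inl (.inr i)) 1)
      (fun i => Pi.single (.inl (.inl i)) 1 - Pi.single (.inl (.inr i)) 1))
      ![Pi.single (.inr 0) 1, Pi.single (.inr 0) (-a) + Pi.single (.inr 1) 2]
  have horth : ∀ i j, i ≠ j → polar (qMinus m F a b) (v i) (v j) = 0 := by
    rintro ((i | i) | i) ((j | j) | j) h
    all_goals try fin_cases i
    all_goals try fin_cases j
    all_goals first
      | exact absurd rfl h
      | (simp [v, polar_qMinus, Pi.single_apply] <;> first | ring1 | aesop)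
  have h1 : ∀ i, qMinus m F a b (v (.inl (.inl i))) = 1 := fun i => by
    simp [v, qMinus_apply, Pi.single_apply]
  have h1' : ∀ i, qMinus m F a b (v (.inl (.inr i))) = -1 := fun i => by
    simp [v, qMinus_apply, Pi.single_apply]
  have h3 : qMinus m F a b (v (.inr 0)) = 1 := by simp [v, qMinus_apply]
  have h4 : qMinus m F a b (v (.inr 1)) = -(a ^ 2 - 4 * b) := by
    simp [v, qMinus_apply]; ring
  have hne : ∀ i, qMinus m F a b (v i) ≠ 0 := by
    rintro ((i | i) | i)
    · rw [h1]; exact one_ne_zero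
    · rw [h1']; simp
    · fin_cases i
      · exact h3 ▸ one_ne_zero
      · exact h4 ▸ neg_ne_zero.2 hab
  refine ⟨basisOfLinearIndependentOfCardEqFinrank' _ (linearIndependent_of_orth h2 horth hne)
    (by simp), ?_, ?_⟩
  · simpa only [coe_basisOfLinearIndependentOfCardEqFinrank'] using horth
  · simp only [coe_basisOfLinearIndependentOfCardEqFinrank', Fintype.prod_sum_type, h1, h1',
      Fin.prod_univ_two, h3, h4]
    simp [pow_succ]
    ring

/-- The type of an even-dimensional form in odd characteristic is read off from the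
discriminant. -/
theorem plus_iff_isSquare [Finite F] (h2 : (2 : F) ≠ 0) (hQ : (polarBilin Q).Nondegenerate)
    {m : ℕ} (hV : finrank F V = 2 * m) {ι : Type*} [Fintype ι] (b : Basis ι F V)
    (hb : ∀ i j, i ≠ j → polar Q (b i) (b j) = 0) :
    (∃ W : Submodule F V, finrank F W = m ∧ ∀ w ∈ W, Q w = 0) ↔
      IsSquare ((-1) ^ m * ∏ i, Q (b i)) := by
  constructor
  · rintro ⟨W, hW, hts⟩
    obtain ⟨e, he⟩ := exists_equiv_plus hQ hV hts hW
    obtain ⟨c, hc, hc'⟩ := exists_orth_basis_qPlus h2 m
    have := isSquare_prod_mul_prod (Q := Q) h2 (c.map e) b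
      (fun i j h => by simpa [polar_map_equiv he] using hc i j h) hb
    simpa only [Basis.map_apply, he, hc'] using this
  · intro hsq
    by_contra hno
    obtain rfl | ⟨l, rfl⟩ := m.eq_zero_or_eq_succ_pred.imp id fun h => (⟨_, h⟩ : ∃ l, m = l + 1)
    · exact hno ⟨⊥, by simp, by simp⟩
    obtain ⟨a, d, hab⟩ := exists_aniso_binary F
    obtain ⟨e, he⟩ := exists_equiv_minus hQ (m := l) (by omega) hno hab
    obtain ⟨c, hc, hc'⟩ := exists_orth_basis_qMinus h2 l (disc_ne_zero_of_aniso hab)
    have := isSquare_prod_mul_prod (Q := Q) h2 (c.map e) b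
      (fun i j h => by simpa [polar_map_equiv he] using hc i j h) hb
    simp only [Basis.map_apply, he, hc'] at this
    refine disc_not_isSquare_of_aniso h2 hab (isSquare_of_mul_of_ne_zero hsq ?_ ?_)
    · exact mul_ne_zero (by simp)
        (Finset.prod_ne_zero_iff.2 fun i _ => map_ne_zero_of_orth_basis hQ b hb i)
    · convert this using 1
      ring

end FinDim

theorem isSquare_neg_one_pow_iff [Fintype F] (m : ℕ) :
    IsSquare ((-1 : F) ^ m) ↔ ¬ (Fintype.card F % 4 = 3 ∧ Odd m) := by
  rcases Nat.even_or_odd m with h | h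
  · simp [h.neg_one_pow, Nat.not_odd_iff_even.2 h]
  · simp [h.neg_one_pow, FiniteField.isSquare_neg_one_iff, h]

/-! ### Symmetric bilinear forms -/

section Bilin

variable {B : LinearMap.BilinForm F V}

theorem polar_toQuadraticMap_of_symm (hS : B.IsSymm) (x y : V) :
    polar (LinearMap.BilinMap.toQuadraticMap B) x y = 2 * B x y := by
  rw [LinearMap.BilinMap.polar_toQuadraticMap, hS.eq y x]; ring

theorem nondeg_toQuadraticMap (h2 : (2 : F) ≠ 0) (hS : B.IsSymm) (hB : B.Nondegenerate) :
    (polarBilin (LinearMap.BilinMap.toQuadraticMap B)).Nondegenerate := by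
  rw [nondeg_iff]
  intro x hx
  refine hB.1 x fun y => ?_
  have := hx y
  rw [polar_toQuadraticMap_of_symm hS] at this
  exact (mul_eq_zero.1 this).resolve_left h2

theorem ts_toQuadraticMap_iff (h2 : (2 : F) ≠ 0) (hS : B.IsSymm) (X : Submodule F V) :
    (∀ w ∈ X, LinearMap.BilinMap.toQuadraticMap B w = 0) ↔ ∀ x ∈ X, ∀ y ∈ X, B x y = 0 := by
  refine ⟨fun h x hx y hy => ?_, fun h w hw => h w hw w hw⟩
  have := polar_eq_zero_of_ts h hx hy
  rw [polar_toQuadraticMap_of_symm hS] at this
  exact (mul_eq_zero.1 this).resolve_left h2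

theorem bilin_exists_orth_basis [FiniteDimensional F V] (h2 : (2 : F) ≠ 0) (hS : B.IsSymm) :
    ∃ b : Basis (Fin (finrank F V)) F V, ∀ i j, i ≠ j → B (b i) (b j) = 0 := by
  have : Invertible (2 : F) := invertibleOfNonzero h2
  obtain ⟨b, hb⟩ := LinearMap.BilinForm.exists_orthogonal_basis (B := B) ⟨hS.eq⟩
  exact ⟨b, fun i j h => hb h⟩

theorem bilin_plus_iff_isSquare [Finite F] [FiniteDimensional F V] (h2 : (2 : F) ≠ 0)
    (hS : B.IsSymm) (hB : B.Nondegenerate) {m : ℕ} (hV : finrank F V = 2 * m) {ι : Type*}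
    [Fintype ι] (b : Basis ι F V) (hb : ∀ i j, i ≠ j → B (b i) (b j) = 0) :
    (∃ X : Submodule F V, finrank F X = m ∧ ∀ x ∈ X, ∀ y ∈ X, B x y = 0) ↔
      IsSquare ((-1) ^ m * ∏ i, B (b i) (b i)) := by
  have := plus_iff_isSquare h2 (nondeg_toQuadraticMap h2 hS hB) hV b
    (fun i j h => by rw [polar_toQuadraticMap_of_symm hS, hb i j h, mul_zero])
  simp only [ts_toQuadraticMap_iff h2 hS] at this
  exact this

/-- The tensor product of non-degenerate bilinear forms is non-degenerate. -/
theorem nondeg_tmul {W : Type*} [AddCommGroup W] [Module F W] [FiniteDimensional F V]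
    [FiniteDimensional F W] {B' : LinearMap.BilinForm F W} (hB : B.Nondegenerate)
    (hB' : B'.Nondegenerate) : LinearMap.BilinForm.Nondegenerate (B.tmul B') := by
  let b := finBasis F V
  let c := finBasis F W
  rw [LinearMap.BilinForm.nondegenerate_iff_det_ne_zero b] at hB
  rw [LinearMap.BilinForm.nondegenerate_iff_det_ne_zero c] at hB'
  rw [LinearMap.BilinForm.nondegenerate_iff_det_ne_zero (b.tensorProduct c)]
  have : LinearMap.BilinForm.toMatrix (b.tensorProduct c) (B.tmul B')
      = Matrix.kroneckerMap (· * ·) (LinearMap.BilinForm.toMatrix b B)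
        (LinearMap.BilinForm.toMatrix c B') := by
    ext ⟨i, k⟩ ⟨j, l⟩
    simp [mul_comm]
  rw [this, Matrix.det_kronecker]
  exact mul_ne_zero (pow_ne_zero _ hB) (pow_ne_zero _ hB')

/-- The product of the norms of the tensor basis. -/
theorem prod_tmul_basis {W : Type*} [AddCommGroup W] [Module F W] {B' : LinearMap.BilinForm F W}
    {ι κ : Type*} [Fintype ι] [Fintype κ] (b : Basis ι F V) (c : Basis κ F W) :
    ∏ p, (B.tmul B') (b.tensorProduct c p) (b.tensorProduct c p)
      = (∏ i, B (b i) (b i)) ^ Fintype.card κ * (∏ j, B' (c j) (c j)) ^ Fintype.card ι := by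
  simp [Fintype.prod_prod_type, Finset.prod_mul_distrib, Finset.prod_pow, mul_comm]

theorem orth_tmul_basis {W : Type*} [AddCommGroup W] [Module F W] {B' : LinearMap.BilinForm F W}
    {ι κ : Type*} (b : Basis ι F V) (c : Basis κ F W) (hb : ∀ i j, i ≠ j → B (b i) (b j) = 0)
    (hc : ∀ i j, i ≠ j → B' (c i) (c j) = 0) (p q : ι × κ) (h : p ≠ q) :
    (B.tmul B') (b.tensorProduct c p) (b.tensorProduct c q) = 0 := by
  obtain ⟨i, k⟩ := p
  obtain ⟨j, l⟩ := q
  by_cases hij : i = j
  · have hkl : k ≠ l := fun hkl => h (by rw [hij, hkl])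
    simp [hc k l hkl]
  · simp [hb i j hij]

end Bilin

end CL.QuadF
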