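import Cfsg.Agent.QuadF.Witt

/-!
# Perpendicular spaces, singular vectors, totally singular subspaces and the Witt index
-/

set_option autoImplicit false

namespace CL.QuadF

open Module QuadraticMap

variable {F V : Type*} [Field F] [AddCommGroup V] [Module F V]

/-! ### Perpendicular spaces -/

/-- The perpendicular space of `X` for the polar form of `Q`. -/
def perp (Q : QuadraticForm F V) (X : Submodule F V) : Submodule F V :=
  LinearMap.BilinForm.orthogonal (polarBilin Q) X

theorem mem_perp {Q : QuadraticForm F V} {X : Submodule F V} {v : V} :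
    v ∈ perp Q X ↔ ∀ x ∈ X, polar Q x v = 0 := Iff.rfl

theorem mem_perp' {Q : QuadraticForm F V} {X : Submodule F V} {v : V} :
    v ∈ perp Q X ↔ ∀ x ∈ X, polar Q v x = 0 := by
  simp only [mem_perp, polar_comm Q v]

theorem polarBilin_isSymm (Q : QuadraticForm F V) :
    LinearMap.BilinForm.IsSymm (polarBilin Q) := ⟨fun x y => polar_comm Q x y⟩

theorem polarBilin_isRefl (Q : QuadraticForm F V) :
    LinearMap.BilinForm.IsRefl (polarBilin Q) := (polarBilin_isSymm Q).isRefl

theorem nondeg_iff {Q : QuadraticForm F V} :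
    (polarBilin Q).Nondegenerate ↔ ∀ x, (∀ y, polar Q x y = 0) → x = 0 :=
  LinearMap.IsRefl.nondegenerate_iff_separatingLeft (polarBilin_isRefl Q)

theorem eq_zero_of_polar {Q : QuadraticForm F V} (hQ : (polarBilin Q).Nondegenerate) {x : V}
    (h : ∀ y, polar Q x y = 0) : x = 0 := nondeg_iff.1 hQ x h

theorem exists_polar_ne_zero {Q : QuadraticForm F V} (hQ : (polarBilin Q).Nondegenerate) {x : V}
    (hx : x ≠ 0) : ∃ y, polar Q x y ≠ 0 := by
  by_contra h
  push Not at h
  exact hx (eq_zero_of_polar hQ h)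

theorem mem_perp_span {Q : QuadraticForm F V} {s : Set V} {v : V} :
    v ∈ perp Q (Submodule.span F s) ↔ ∀ x ∈ s, polar Q x v = 0 := by
  refine ⟨fun h x hx => h x (Submodule.subset_span hx), fun h x hx => ?_⟩
  induction hx using Submodule.span_induction with
  | mem y hy => exact h y hy
  | zero => simp
  | add y z _ _ hy hz => simp only [LinearMap.map_add, LinearMap.add_apply, hy, hz, add_zero]
  | smul a y _ hy => simp only [LinearMap.map_smul, LinearMap.smul_apply, hy, smul_zero]

theorem mem_perp_singleton {Q : QuadraticForm F V} {u v : V} :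
    v ∈ perp Q (F ∙ u) ↔ polar Q u v = 0 := by
  rw [mem_perp_span]; simp

theorem perp_anti {Q : QuadraticForm F V} {X Y : Submodule F V} (h : X ≤ Y) :
    perp Q Y ≤ perp Q X := fun _ hv x hx => hv x (h hx)

theorem le_perp_perp (Q : QuadraticForm F V) (X : Submodule F V) : X ≤ perp Q (perp Q X) :=
  fun _ hx _ hy => mem_perp'.1 hy _ hx

theorem le_perp_comm {Q : QuadraticForm F V} {X Y : Submodule F V} :
    X ≤ perp Q Y ↔ Y ≤ perp Q X :=
  ⟨fun h _ hy _ hx => mem_perp'.1 (h hx) _ hy, fun h _ hy _ hx => mem_perp'.1 (h hx) _ hy⟩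

theorem perp_sup (Q : QuadraticForm F V) (X Y : Submodule F V) :
    perp Q (X ⊔ Y) = perp Q X ⊓ perp Q Y := by
  refine le_antisymm (le_inf (perp_anti le_sup_left) (perp_anti le_sup_right)) ?_
  rw [le_perp_comm]
  exact sup_le (le_perp_comm.1 inf_le_left) (le_perp_comm.1 inf_le_right)

theorem perp_bot (Q : QuadraticForm F V) : perp Q ⊥ = ⊤ :=
  LinearMap.BilinForm.orthogonal_bot

theorem perp_top {Q : QuadraticForm F V} (hQ : (polarBilin Q).Nondegenerate) : perp Q ⊤ = ⊥ :=
  LinearMap.BilinForm.orthogonal_top_eq_bot hQ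

theorem perp_map {Q : QuadraticForm F V} {g : V ≃ₗ[F] V} (hg : ∀ x, Q (g x) = Q x)
    (X : Submodule F V) : perp Q (X.map (g : V →ₗ[F] V)) = (perp Q X).map (g : V →ₗ[F] V) := by
  ext v
  rw [Submodule.mem_map_equiv, mem_perp, mem_perp]
  constructor
  · intro h x hx
    rw [← polar_map_equiv hg, LinearEquiv.apply_symm_apply]
    exact h _ ⟨x, hx, rfl⟩
  · rintro h _ ⟨x, hx, rfl⟩
    have := h x hx
    rw [← polar_map_equiv hg, LinearEquiv.apply_symm_apply] at this
    exact this

section FinDim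

variable [FiniteDimensional F V] {Q : QuadraticForm F V}

theorem finrank_add_finrank_perp (hQ : (polarBilin Q).Nondegenerate) (X : Submodule F V) :
    finrank F X + finrank F (perp Q X) = finrank F V := by
  have h1 := LinearMap.BilinForm.finrank_orthogonal (B := polarBilin Q) hQ X
  have h2 := X.finrank_le
  unfold perp
  omega

theorem perp_perp (hQ : (polarBilin Q).Nondegenerate) (X : Submodule F V) :
    perp Q (perp Q X) = X :=
  LinearMap.BilinForm.orthogonal_orthogonal (B := polarBilin Q) hQ (polarBilin_isRefl Q) X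

theorem perp_inf (hQ : (polarBilin Q).Nondegenerate) (X Y : Submodule F V) :
    perp Q (X ⊓ Y) = perp Q X ⊔ perp Q Y := by
  conv_lhs => rw [← perp_perp hQ X, ← perp_perp hQ Y, ← perp_sup, perp_perp hQ]

theorem perp_injective (hQ : (polarBilin Q).Nondegenerate) : Function.Injective (perp Q) :=
  fun X Y h => by rw [← perp_perp hQ X, h, perp_perp hQ]

theorem perp_le_perp_iff (hQ : (polarBilin Q).Nondegenerate) {X Y : Submodule F V} :
    perp Q X ≤ perp Q Y ↔ Y ≤ X := by
  rw [le_perp_comm, perp_perp hQ]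

/-- A vector perpendicular to everything perpendicular to `X` lies in `X`. -/
theorem mem_of_forall_perp (hQ : (polarBilin Q).Nondegenerate) {X : Submodule F V} {v : V}
    (h : ∀ y ∈ perp Q X, polar Q y v = 0) : v ∈ X := by
  rw [← perp_perp hQ X]; exact h

theorem finrank_perp_singleton (hQ : (polarBilin Q).Nondegenerate) {u : V} (hu : u ≠ 0) :
    finrank F (perp Q (F ∙ u)) + 1 = finrank F V := by
  have := finrank_add_finrank_perp hQ (F ∙ u)
  rw [finrank_span_singleton hu] at this
  omega

/-- A subspace meeting its perpendicular space trivially is complementary to it. -/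
theorem isCompl_perp (hQ : (polarBilin Q).Nondegenerate) {X : Submodule F V}
    (h : Disjoint X (perp Q X)) : IsCompl X (perp Q X) := by
  refine ⟨h, codisjoint_iff.2 (Submodule.eq_top_of_finrank_eq ?_)⟩
  have h1 := Submodule.finrank_sup_add_finrank_inf_eq X (perp Q X)
  rw [h.eq_bot, finrank_bot, finrank_add_finrank_perp hQ] at h1
  omega

end FinDim

/-! ### Restriction to a subspace -/

/-- The restriction of `Q` to a subspace. -/
def restr (Q : QuadraticForm F V) (X : Submodule F V) : QuadraticForm F X := Q.comp X.subtype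

theorem restr_apply (Q : QuadraticForm F V) (X : Submodule F V) (x : X) :
    restr Q X x = Q x := rfl

theorem polar_restr (Q : QuadraticForm F V) (X : Submodule F V) (x y : X) :
    polar (restr Q X) x y = polar Q (x : V) (y : V) := rfl

theorem nondeg_restr_iff {Q : QuadraticForm F V} {X : Submodule F V} :
    (polarBilin (restr Q X)).Nondegenerate ↔ Disjoint X (perp Q X) := by
  rw [nondeg_iff, Submodule.disjoint_def]
  constructor
  · intro h x hx hx'
    exact congrArg Subtype.val (h ⟨x, hx⟩ fun y => mem_perp'.1 hx' y y.2)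
  · intro h x hx
    exact Subtype.ext (h x x.2 (mem_perp'.2 fun y hy => hx ⟨y, hy⟩))

theorem nondeg_restr_perp [FiniteDimensional F V] {Q : QuadraticForm F V}
    (hQ : (polarBilin Q).Nondegenerate) {X : Submodule F V} (h : Disjoint X (perp Q X)) :
    (polarBilin (restr Q (perp Q X))).Nondegenerate := by
  rw [nondeg_restr_iff, perp_perp hQ]; exact h.symm

theorem disjoint_perp_singleton {Q : QuadraticForm F V} {u : V} (hu : polar Q u u ≠ 0) :
    Disjoint (F ∙ u) (perp Q (F ∙ u)) := by
  rw [Submodule.disjoint_def]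
  intro x hx hx'
  obtain ⟨a, rfl⟩ := Submodule.mem_span_singleton.1 hx
  rw [mem_perp_singleton, polar_smul_right, smul_eq_mul, mul_eq_zero] at hx'
  rcases hx' with h | h
  · simp [h]
  · exact absurd h hu

/-- The span of a pair with invertible Gram matrix meets its perpendicular space trivially. -/
theorem disjoint_perp_pair {Q : QuadraticForm F V} {u v : V}
    (h : polar Q u u * polar Q v v - polar Q u v ^ 2 ≠ 0) :
    Disjoint (Submodule.span F {u, v}) (perp Q (Submodule.span F {u, v})) := by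
  rw [Submodule.disjoint_def]
  intro x hx hx'
  obtain ⟨a, b, rfl⟩ := Submodule.mem_span_pair.1 hx
  rw [mem_perp_span] at hx'
  have h1 := hx' u (by simp)
  have h2 := hx' v (by simp)
  simp only [polar_add_right, polar_smul_right, smul_eq_mul, polar_comm Q v u] at h1 h2
  have ha : a * (polar Q u u * polar Q v v - polar Q u v ^ 2) = 0 := by
    linear_combination polar Q v v * h1 - polar Q u v * h2
  have hb : b * (polar Q u u * polar Q v v - polar Q u v ^ 2) = 0 := by
    linear_combination polar Q u u * h2 - polar Q u v * h1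
  rw [(mul_eq_zero.1 ha).resolve_right h, (mul_eq_zero.1 hb).resolve_right h]
  simp

theorem linearIndependent_pair_of_gram {Q : QuadraticForm F V} {u v : V}
    (h : polar Q u u * polar Q v v - polar Q u v ^ 2 ≠ 0) : LinearIndependent F ![u, v] := by
  rw [LinearIndependent.pair_iff]
  intro a b hab
  have h1 : polar Q u (a • u + b • v) = 0 := by rw [hab, polar_zero_right]
  have h2 : polar Q v (a • u + b • v) = 0 := by rw [hab, polar_zero_right]
  simp only [polar_add_right, polar_smul_right, smul_eq_mul, polar_comm Q v u] at h1 h2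
  have ha : a * (polar Q u u * polar Q v v - polar Q u v ^ 2) = 0 := by
    linear_combination polar Q v v * h1 - polar Q u v * h2
  have hb : b * (polar Q u u * polar Q v v - polar Q u v ^ 2) = 0 := by
    linear_combination polar Q u u * h2 - polar Q u v * h1
  exact ⟨(mul_eq_zero.1 ha).resolve_right h, (mul_eq_zero.1 hb).resolve_right h⟩

theorem gram_hyperbolic_ne_zero {Q : QuadraticForm F V} {u v : V} (hu : Q u = 0)
    (huv : polar Q u v ≠ 0) : polar Q u u * polar Q v v - polar Q u v ^ 2 ≠ 0 := by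
  rw [polar_self_eq, hu]; simpa using huv

/-! ### Non-singular vectors and singular vectors -/

theorem exists_ne_zero_of_polar_ne_zero {Q : QuadraticForm F V} {X : Submodule F V} {x y : V}
    (hx : x ∈ X) (hy : y ∈ X) (h : polar Q x y ≠ 0) : ∃ v ∈ X, Q v ≠ 0 := by
  by_contra hne
  push Not at hne
  apply h
  simp only [polar]
  rw [hne _ hx, hne _ hy, hne _ (X.add_mem hx hy)]; simp

theorem exists_nonsingular [Nontrivial V] {Q : QuadraticForm F V}
    (hQ : (polarBilin Q).Nondegenerate) : ∃ v, Q v ≠ 0 := by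
  obtain ⟨x, hx⟩ := exists_ne (0 : V)
  obtain ⟨y, hy⟩ := exists_polar_ne_zero hQ hx
  obtain ⟨v, -, hv⟩ := exists_ne_zero_of_polar_ne_zero (X := ⊤) trivial trivial hy
  exact ⟨v, hv⟩

theorem ne_zero_of_map_ne_zero {Q : QuadraticForm F V} {v : V} (h : Q v ≠ 0) : v ≠ 0 := by
  rintro rfl; exact h (map_zero Q)

/-- A singular non-zero vector has a hyperbolic partner. -/
theorem exists_hyperbolic_partner [FiniteDimensional F V] {Q : QuadraticForm F V}
    (hQ : (polarBilin Q).Nondegenerate) {p : V} (hp : p ≠ 0) (hp0 : Q p = 0) :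
    ∃ q, Q q = 0 ∧ polar Q p q = 1 := by
  obtain ⟨q, h1, h2, -⟩ := exists_partner hQ (H := ⊥) (by simpa using hp) hp0 (by simp)
  exact ⟨q, h1, h2⟩

/-- Inside a subspace `X`: a singular vector of `X` not perpendicular to `X` has a hyperbolic
partner in `X`. -/
theorem exists_hyperbolic_partner_mem {Q : QuadraticForm F V} {X : Submodule F V} {p y : V}
    (hp : p ∈ X) (hp0 : Q p = 0) (hy : y ∈ X) (hpy : polar Q p y ≠ 0) :
    ∃ q ∈ X, Q q = 0 ∧ polar Q p q = 1 := by
  refine ⟨(polar Q p y)⁻¹ • y - Q ((polar Q p y)⁻¹ • y) • p,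
    X.sub_mem (X.smul_mem _ hy) (X.smul_mem _ hp), ?_, ?_⟩
  · rw [map_sub_polar, map_smul_sq Q _ p, polar_smul_right, polar_smul_left, polar_comm Q y p, hp0,
      smul_eq_mul, smul_eq_mul, inv_mul_cancel₀ hpy]; ring
  · rw [polar_sub_right, polar_smul_right, polar_smul_right, polar_self_eq, hp0, smul_eq_mul,
      inv_mul_cancel₀ hpy]; simp

/-- If `X` contains a singular vector not perpendicular to `X`, then `X` is spanned by its
singular vectors. -/
theorem span_singular_eq {Q : QuadraticForm F V} {X : Submodule F V} {p y : V}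
    (hp : p ∈ X) (hp0 : Q p = 0) (hy : y ∈ X) (hpy : polar Q p y ≠ 0) :
    Submodule.span F {v | v ∈ X ∧ Q v = 0} = X := by
  refine le_antisymm (Submodule.span_le.2 fun v hv => hv.1) ?_
  have key : ∀ x ∈ X, polar Q p x ≠ 0 → x ∈ Submodule.span F {v | v ∈ X ∧ Q v = 0} := by
    intro x hx hpx
    have h1 : x - (Q x / polar Q p x) • p ∈ Submodule.span F {v | v ∈ X ∧ Q v = 0} := by
      refine Submodule.subset_span ⟨X.sub_mem hx (X.smul_mem _ hp), ?_⟩
      rw [map_sub_polar, map_smul_sq, polar_smul_right, hp0, polar_comm Q x p, smul_eq_mul,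
        div_mul_cancel₀ _ hpx]; ring
    have h2 : (Q x / polar Q p x) • p ∈ Submodule.span F {v | v ∈ X ∧ Q v = 0} :=
      Submodule.smul_mem _ _ (Submodule.subset_span ⟨hp, hp0⟩)
    simpa using Submodule.add_mem _ h1 h2
  intro x hx
  by_cases hpx : polar Q p x = 0
  · have h1 := key (x + y) (X.add_mem hx hy) (by rw [polar_add_right, hpx, zero_add]; exact hpy)
    simpa using Submodule.sub_mem _ h1 (key y hy hpy)
  · exact key x hx hpx

/-- A non-degenerate space with a non-zero singular vector is spanned by singular vectors. -/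
theorem span_singular_eq_top {Q : QuadraticForm F V} (hQ : (polarBilin Q).Nondegenerate)
    {p : V} (hp : p ≠ 0) (hp0 : Q p = 0) : Submodule.span F {v | Q v = 0} = ⊤ := by
  obtain ⟨y, hy⟩ := exists_polar_ne_zero hQ hp
  simpa using span_singular_eq (X := ⊤) trivial hp0 trivial hy

/-- Chevalley–Warning for ternary quadratic forms. -/
theorem exists_ternary_zero [Finite F] (a b c d e f : F) :
    ∃ x y z : F, (x ≠ 0 ∨ y ≠ 0 ∨ z ≠ 0) ∧
      a * x ^ 2 + b * y ^ 2 + c * z ^ 2 + d * (x * y) + e * (x * z) + f * (y * z) = 0 := by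
  classical
  have := Fintype.ofFinite F
  obtain ⟨p, hp⟩ := CharP.exists F
  have hpp : p.Prime := CharP.char_is_prime F p
  let P : MvPolynomial (Fin 3) F :=
    MvPolynomial.C a * MvPolynomial.X 0 ^ 2 + MvPolynomial.C b * MvPolynomial.X 1 ^ 2
      + MvPolynomial.C c * MvPolynomial.X 2 ^ 2
      + MvPolynomial.C d * (MvPolynomial.X 0 * MvPolynomial.X 1)
      + MvPolynomial.C e * (MvPolynomial.X 0 * MvPolynomial.X 2)
      + MvPolynomial.C f * (MvPolynomial.X 1 * MvPolynomial.X 2)
  have hsq : ∀ (t : F) (i : Fin 3),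
      (MvPolynomial.C t * MvPolynomial.X i ^ 2 : MvPolynomial (Fin 3) F).totalDegree ≤ 2 := by
    intro t i
    refine (MvPolynomial.totalDegree_mul _ _).trans ?_
    rw [MvPolynomial.totalDegree_C, zero_add, MvPolynomial.totalDegree_X_pow]
  have hmul : ∀ (t : F) (i j : Fin 3),
      (MvPolynomial.C t * (MvPolynomial.X i * MvPolynomial.X j) :
        MvPolynomial (Fin 3) F).totalDegree ≤ 2 := by
    intro t i j
    refine (MvPolynomial.totalDegree_mul _ _).trans ?_
    rw [MvPolynomial.totalDegree_C, zero_add]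
    refine (MvPolynomial.totalDegree_mul _ _).trans ?_
    rw [MvPolynomial.totalDegree_X, MvPolynomial.totalDegree_X]
  have hdeg : P.totalDegree < Fintype.card (Fin 3) := by
    rw [Fintype.card_fin]
    refine Nat.lt_succ_of_le ?_
    refine (MvPolynomial.totalDegree_add _ _).trans (max_le ?_ (hmul _ _ _))
    refine (MvPolynomial.totalDegree_add _ _).trans (max_le ?_ (hmul _ _ _))
    refine (MvPolynomial.totalDegree_add _ _).trans (max_le ?_ (hmul _ _ _))
    refine (MvPolynomial.totalDegree_add _ _).trans (max_le ?_ (hsq _ _))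
    exact (MvPolynomial.totalDegree_add _ _).trans (max_le (hsq _ _) (hsq _ _))
  have hdvd := char_dvd_card_solutions p hdeg
  by_contra hne
  push Not at hne
  have h1 : Fintype.card { x : Fin 3 → F // MvPolynomial.eval x P = 0 } = 1 := by
    rw [Fintype.card_eq_one_iff]
    refine ⟨⟨0, by simp [P]⟩, fun x => Subtype.ext ?_⟩
    by_contra hx
    refine hne (x.1 0) (x.1 1) (x.1 2) ?_ (by simpa [P] using x.2)
    by_contra h3
    push Not at h3
    apply hx
    ext i
    fin_cases i
    · exact h3.1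
    · exact h3.2.1
    · exact h3.2.2
  rw [h1] at hdvd
  exact hpp.one_lt.ne' (Nat.dvd_one.1 hdvd)

/-- Over a finite field, every subspace of dimension at least three has a non-zero singular
vector. -/
theorem exists_singular_mem [Finite F] (Q : QuadraticForm F V) (X : Submodule F V)
    (h3 : 3 ≤ finrank F X) : ∃ v ∈ X, v ≠ 0 ∧ Q v = 0 := by
  have : FiniteDimensional F X := Module.finite_of_finrank_pos (by omega)
  obtain ⟨b, hb⟩ := exists_linearIndependent_of_le_finrank h3
  obtain ⟨x, y, z, hne, h0⟩ := exists_ternary_zero (Q (b 0)) (Q (b 1)) (Q (b 2))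
    (polar Q (b 0 : V) (b 1)) (polar Q (b 0 : V) (b 2)) (polar Q (b 1 : V) (b 2))
  refine ⟨(x • b 0 + y • b 1 + z • b 2 : X), Subtype.property _, ?_, ?_⟩
  · intro h
    have h' : x • b 0 + y • b 1 + z • b 2 = 0 := Subtype.ext h
    have := Fintype.linearIndependent_iff.1 hb ![x, y, z] (by simpa [Fin.sum_univ_three] using h')
    rcases hne with h | h | h
    · exact h (this 0)
    · exact h (this 1)
    · exact h (this 2)
  · simp only [Submodule.coe_add, Submodule.coe_smul, map_add_polar, map_smul_sq, polar_add_left,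
      polar_smul_left, polar_smul_right, smul_eq_mul]
    linear_combination h0

/-- Over a finite field, a quadratic form in dimension at least three has a non-zero singular
vector. -/
theorem exists_singular [Finite F] (Q : QuadraticForm F V) (h3 : 3 ≤ finrank F V) :
    ∃ v, v ≠ 0 ∧ Q v = 0 := by
  obtain ⟨v, -, hv⟩ := exists_singular_mem Q ⊤ (by rwa [finrank_top])
  exact ⟨v, hv⟩

/-- Over a finite field, a binary form with invertible Gram matrix represents every value. -/
theorem exists_map_eq_of_gram [Finite F] {Q : QuadraticForm F V} {u v : V}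
    (h : polar Q u u * polar Q v v - polar Q u v ^ 2 ≠ 0) (c : F) :
    ∃ a b : F, Q (a • u + b • v) = c := by
  obtain ⟨x, y, z, hne, h0⟩ := exists_ternary_zero (Q u) (Q v) (-c) (polar Q u v) 0 0
  have hQ : ∀ a b : F, Q (a • u + b • v) = Q u * a ^ 2 + Q v * b ^ 2 + polar Q u v * (a * b) := by
    intro a b
    simp only [map_add_polar, map_smul_sq, polar_smul_left, polar_smul_right, smul_eq_mul]
    ring
  by_cases hz : z = 0
  · subst hz
    have hp0 : Q (x • u + y • v) = 0 := by rw [hQ]; linear_combination h0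
    have hpX : x • u + y • v ∈ Submodule.span F {u, v} := Submodule.mem_span_pair.2 ⟨x, y, rfl⟩
    have hne0 : x • u + y • v ≠ 0 := by
      intro h1
      have := LinearIndependent.pair_iff.1 (linearIndependent_pair_of_gram h) x y h1
      rcases hne with h | h | h
      · exact h this.1
      · exact h this.2
      · exact h rfl
    have : ∃ w ∈ Submodule.span F {u, v}, polar Q (x • u + y • v) w ≠ 0 := by
      by_contra hc
      push Not at hc
      exact hne0 (Submodule.disjoint_def.1 (disjoint_perp_pair h) _ hpX (mem_perp'.2 hc))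
    obtain ⟨w, hw, hpw⟩ := this
    obtain ⟨q, hq, hq0, hpq⟩ := exists_hyperbolic_partner_mem hpX hp0 hw hpw
    obtain ⟨a, b, hab⟩ := Submodule.mem_span_pair.1
      (Submodule.add_mem _ (Submodule.smul_mem _ c hpX) hq)
    refine ⟨a, b, ?_⟩
    rw [hab, map_add_polar, map_smul_sq, hp0, hq0, polar_smul_left, hpq]; simp
  · refine ⟨x / z, y / z, ?_⟩
    rw [hQ]
    field_simp
    linear_combination h0

/-- A non-degenerate space of dimension at least two contains a pair with invertible Gram
matrix. -/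
theorem exists_pair_gram [FiniteDimensional F V] {Q : QuadraticForm F V}
    (hQ : (polarBilin Q).Nondegenerate) (h2 : 2 ≤ finrank F V) :
    ∃ u v : V, polar Q u u * polar Q v v - polar Q u v ^ 2 ≠ 0 := by
  have : Nontrivial V := Module.nontrivial_of_finrank_pos (R := F) (by omega)
  by_cases hA : ∀ x, polar Q x x = 0
  · obtain ⟨x, hx⟩ := exists_ne (0 : V)
    obtain ⟨y, hy⟩ := exists_polar_ne_zero hQ hx
    exact ⟨x, y, by rw [hA]; simpa using hy⟩
  push Not at hA
  obtain ⟨x, hx⟩ := hA
  have hx0 : x ≠ 0 := by rintro rfl; simp at hx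
  have hnd := nondeg_restr_perp hQ (disjoint_perp_singleton hx)
  have hdim := finrank_perp_singleton hQ hx0
  have : Nontrivial (perp Q (F ∙ x)) := Module.nontrivial_of_finrank_pos (R := F) (by omega)
  obtain ⟨y, hy⟩ := exists_nonsingular hnd
  have hxy : polar Q x y = 0 := mem_perp_singleton.1 y.2
  refine ⟨x, y, ?_⟩
  rw [hxy, polar_self_eq Q (y : V)]
  rw [polar_self_eq] at hx
  rw [restr_apply] at hy
  have h2' : (2 : F) ≠ 0 := left_ne_zero_of_mul hx
  rw [polar_self_eq]
  simp [h2', hy, right_ne_zero_of_mul hx]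

/-- Over a finite field a non-degenerate form in dimension at least two is universal. -/
theorem exists_map_eq [Finite F] [FiniteDimensional F V] {Q : QuadraticForm F V}
    (hQ : (polarBilin Q).Nondegenerate) (h2 : 2 ≤ finrank F V) (c : F) : ∃ v, Q v = c := by
  obtain ⟨u, v, h⟩ := exists_pair_gram hQ h2
  obtain ⟨a, b, hab⟩ := exists_map_eq_of_gram h c
  exact ⟨_, hab⟩

/-- Universality inside a non-degenerate subspace. -/
theorem exists_map_eq_mem [Finite F] [FiniteDimensional F V] {Q : QuadraticForm F V}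
    {X : Submodule F V} (hX : Disjoint X (perp Q X)) (h2 : 2 ≤ finrank F X) (c : F) :
    ∃ v ∈ X, Q v = c := by
  obtain ⟨v, hv⟩ := exists_map_eq (nondeg_restr_iff.2 hX) h2 c
  exact ⟨v, v.2, hv⟩

/-- Over a finite field in dimension at least five, the perpendicular space of any vector is
spanned by its singular vectors. -/
theorem span_singular_perp [Finite F] [FiniteDimensional F V] {Q : QuadraticForm F V}
    (hQ : (polarBilin Q).Nondegenerate) (h5 : 5 ≤ finrank F V) (p : V) :
    Submodule.span F {v | v ∈ perp Q (F ∙ p) ∧ Q v = 0} = perp Q (F ∙ p) := by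
  obtain ⟨U, hU⟩ := (perp Q (F ∙ p) ⊓ (F ∙ p)).exists_isCompl
  have h1 : finrank F (F ∙ p) ≤ 1 := (finrank_span_le_card _).trans (by simp)
  have h2 := finrank_add_finrank_perp hQ (F ∙ p)
  have h3 : finrank F (perp Q (F ∙ p) ⊓ (F ∙ p) : Submodule F V) ≤ 1 :=
    (Submodule.finrank_mono inf_le_right).trans h1
  have h4 := Submodule.finrank_add_eq_of_isCompl hU
  have h6 := Submodule.finrank_sup_add_finrank_inf_eq (perp Q (F ∙ p)) U
  have h7 := (perp Q (F ∙ p) ⊔ U).finrank_le
  obtain ⟨e, he, he0, hQe⟩ := exists_singular_mem Q (perp Q (F ∙ p) ⊓ U) (by omega)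
  have : ∃ y ∈ perp Q (F ∙ p), polar Q e y ≠ 0 := by
    by_contra hc
    push Not at hc
    have hm : e ∈ F ∙ p := mem_of_forall_perp hQ fun y hy => by rw [polar_comm]; exact hc y hy
    exact he0 (Submodule.disjoint_def.1 hU.disjoint e ⟨he.1, hm⟩ he.2)
  obtain ⟨y, hy, hey⟩ := this
  exact span_singular_eq he.1 hQe hy hey

/-! ### Totally singular subspaces -/

theorem polar_eq_zero_of_ts {Q : QuadraticForm F V} {W : Submodule F V} (hW : ∀ w ∈ W, Q w = 0)
    {x y : V} (hx : x ∈ W) (hy : y ∈ W) : polar Q x y = 0 := by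
  simp only [polar]
  rw [hW _ hx, hW _ hy, hW _ (W.add_mem hx hy)]; simp

theorem le_perp_of_ts {Q : QuadraticForm F V} {W : Submodule F V} (hW : ∀ w ∈ W, Q w = 0) :
    W ≤ perp Q W := fun _ hx _ hy => polar_eq_zero_of_ts hW hy hx

theorem ts_sup {Q : QuadraticForm F V} {W X : Submodule F V} (hW : ∀ w ∈ W, Q w = 0)
    (hX : ∀ w ∈ X, Q w = 0) (h : X ≤ perp Q W) : ∀ w ∈ W ⊔ X, Q w = 0 := by
  intro w hw
  obtain ⟨a, ha, b, hb, rfl⟩ := Submodule.mem_sup.1 hw
  rw [map_add_polar, hW a ha, hX b hb, mem_perp.1 (h hb) a ha]; simp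

theorem ts_span_singleton {Q : QuadraticForm F V} {p : V} (hp : Q p = 0) :
    ∀ w ∈ F ∙ p, Q w = 0 := by
  intro w hw
  obtain ⟨a, rfl⟩ := Submodule.mem_span_singleton.1 hw
  rw [map_smul_sq, hp, mul_zero]

theorem ts_span {Q : QuadraticForm F V} {s : Set V} (h1 : ∀ x ∈ s, Q x = 0)
    (h2 : ∀ x ∈ s, ∀ y ∈ s, polar Q x y = 0) : ∀ w ∈ Submodule.span F s, Q w = 0 := by
  have h3 : Submodule.span F s ≤ perp Q (Submodule.span F s) :=
    Submodule.span_le.2 fun y hy => mem_perp_span.2 fun x hx => h2 x hx y hy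
  intro w hw
  induction hw using Submodule.span_induction with
  | mem y hy => exact h1 y hy
  | zero => simp
  | add y z hy hz hy' hz' => rw [map_add_polar, hy', hz', mem_perp.1 (h3 hz) y hy]; simp
  | smul a y _ hy => rw [map_smul_sq, hy, mul_zero]

theorem ts_map {Q : QuadraticForm F V} {g : V ≃ₗ[F] V} (hg : ∀ x, Q (g x) = Q x)
    {W : Submodule F V} (hW : ∀ w ∈ W, Q w = 0) : ∀ w ∈ W.map (g : V →ₗ[F] V), Q w = 0 := by
  rintro _ ⟨w, hw, rfl⟩
  exact (hg w).trans (hW w hw)

section FinDim2

variable [FiniteDimensional F V] {Q : QuadraticForm F V}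

theorem two_mul_finrank_le_of_ts (hQ : (polarBilin Q).Nondegenerate) {W : Submodule F V}
    (hW : ∀ w ∈ W, Q w = 0) : 2 * finrank F W ≤ finrank F V := by
  have h1 := finrank_add_finrank_perp hQ W
  have h2 := Submodule.finrank_mono (le_perp_of_ts hW)
  omega

theorem perp_eq_of_ts (hQ : (polarBilin Q).Nondegenerate) {W : Submodule F V}
    (hW : ∀ w ∈ W, Q w = 0) (hdim : 2 * finrank F W = finrank F V) : perp Q W = W := by
  have h1 := finrank_add_finrank_perp hQ W
  exact (Submodule.eq_of_le_of_finrank_eq (le_perp_of_ts hW) (by omega)).symm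

/-- A totally singular subspace can be moved by an isometry into any totally singular subspace of
at least the same dimension. -/
theorem exists_isometry_ts_le (hQ : (polarBilin Q).Nondegenerate) {W₁ W₂ : Submodule F V}
    (h₁ : ∀ w ∈ W₁, Q w = 0) (h₂ : ∀ w ∈ W₂, Q w = 0) (h : finrank F W₁ ≤ finrank F W₂) :
    ∃ g : V ≃ₗ[F] V, (∀ x, Q (g x) = Q x) ∧ W₁.map (g : V →ₗ[F] V) ≤ W₂ := by
  obtain ⟨f, hf⟩ := finrank_le_iff_exists_linearMap.1 h
  obtain ⟨g, hg, hg'⟩ := witt hQ W₁ (W₂.subtype ∘ₗ f)
    (fun x => by rw [h₁ x x.2]; exact h₂ _ (f x).2) (W₂.injective_subtype.comp hf)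
  refine ⟨g, hg, ?_⟩
  rintro _ ⟨x, hx, rfl⟩
  have := hg' ⟨x, hx⟩
  simp only [LinearEquiv.coe_coe]
  rw [show g x = _ from this]
  exact (f ⟨x, hx⟩).2

/-- The isometry group is transitive on totally singular subspaces of a given dimension. -/
theorem exists_isometry_ts_eq (hQ : (polarBilin Q).Nondegenerate) {W₁ W₂ : Submodule F V}
    (h₁ : ∀ w ∈ W₁, Q w = 0) (h₂ : ∀ w ∈ W₂, Q w = 0) (h : finrank F W₁ = finrank F W₂) :
    ∃ g : V ≃ₗ[F] V, (∀ x, Q (g x) = Q x) ∧ W₁.map (g : V →ₗ[F] V) = W₂ := by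
  obtain ⟨g, hg, hle⟩ := exists_isometry_ts_le hQ h₁ h₂ h.le
  exact ⟨g, hg, Submodule.eq_of_le_of_finrank_eq hle (by rw [LinearEquiv.finrank_map_eq, h])⟩

/-- Every totally singular subspace lies in one of any larger dimension that occurs. -/
theorem exists_ts_ge (hQ : (polarBilin Q).Nondegenerate) {W₁ W₂ : Submodule F V}
    (h₁ : ∀ w ∈ W₁, Q w = 0) (h₂ : ∀ w ∈ W₂, Q w = 0) (h : finrank F W₁ ≤ finrank F W₂) :
    ∃ W : Submodule F V, W₁ ≤ W ∧ (∀ w ∈ W, Q w = 0) ∧ finrank F W = finrank F W₂ := by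
  obtain ⟨g, hg, hle⟩ := exists_isometry_ts_le hQ h₁ h₂ h
  have hg' : ∀ x, Q (g.symm x) = Q x := fun x => by rw [← hg, LinearEquiv.apply_symm_apply]
  refine ⟨W₂.map (g.symm : V →ₗ[F] V), fun x hx => ?_, ts_map hg' h₂,
    LinearEquiv.finrank_map_eq _ _⟩
  exact ⟨g x, hle ⟨x, hx, rfl⟩, by simp⟩

/-- A maximal totally singular subspace has the largest possible dimension. -/
theorem finrank_le_of_maximal_ts (hQ : (polarBilin Q).Nondegenerate) {W₁ W₂ : Submodule F V}
    (h₁ : ∀ w ∈ W₁, Q w = 0) (h₂ : ∀ w ∈ W₂, Q w = 0)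
    (hmax : ∀ W : Submodule F V, W₁ ≤ W → (∀ w ∈ W, Q w = 0) → W = W₁) :
    finrank F W₂ ≤ finrank F W₁ := by
  by_contra hlt
  obtain ⟨W, hle, hW, hdim⟩ := exists_ts_ge hQ h₁ h₂ (by omega)
  rw [hmax W hle hW] at hdim
  omega

/-- There is a totally singular subspace of largest dimension (the Witt index). -/
theorem exists_ts_max (Q : QuadraticForm F V) :
    ∃ W : Submodule F V, (∀ w ∈ W, Q w = 0) ∧
      ∀ X : Submodule F V, (∀ w ∈ X, Q w = 0) → finrank F X ≤ finrank F W := by
  classical
  let S : Set ℕ := {n | ∃ W : Submodule F V, (∀ w ∈ W, Q w = 0) ∧ finrank F W = n}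
  have hne : S.Nonempty := ⟨_, ⊥, by simp, rfl⟩
  have hbdd : BddAbove S := ⟨finrank F V, by rintro _ ⟨W, -, rfl⟩; exact W.finrank_le⟩
  obtain ⟨W, hW, hd⟩ := Nat.sSup_mem hne hbdd
  exact ⟨W, hW, fun X hX => hd ▸ le_csSup hbdd ⟨X, hX, rfl⟩⟩

/-- A linearly independent family has a dual family for the polar form. -/
theorem exists_dual_family (hQ : (polarBilin Q).Nondegenerate) {ι : Type*} [DecidableEq ι]
    {e : ι → V} (he : LinearIndependent F e) :
    ∃ f : ι → V, ∀ i j, polar Q (e i) (f j) = if i = j then 1 else 0 := by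
  have : ∀ j, ∃ w, ∀ i, polar Q (e i) w = if i = j then 1 else 0 := by
    intro j
    obtain ⟨w, hw, hw'⟩ := exists_polar_vec hQ (he.notMem_span_image (s := {j}ᶜ) (x := j) (by simp))
    refine ⟨w, fun i => ?_⟩
    rw [polar_comm]
    split_ifs with h
    · rw [h, hw]
    · exact hw' _ (Submodule.subset_span ⟨i, h, rfl⟩)
  choose f hf using this
  exact ⟨f, fun i j => hf j i⟩

/-- A basis of a totally singular subspace extends to a hyperbolic family. -/
theorem exists_hyperbolic_family (hQ : (polarBilin Q).Nondegenerate) {k : ℕ} {e : Fin k → V}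
    (he : LinearIndependent F e) (he0 : ∀ i, Q (e i) = 0) (hee : ∀ i j, polar Q (e i) (e j) = 0) :
    ∃ f : Fin k → V, (∀ i, Q (f i) = 0) ∧ (∀ i j, polar Q (f i) (f j) = 0) ∧
      ∀ i j, polar Q (e i) (f j) = if i = j then 1 else 0 := by
  obtain ⟨f, hf⟩ := exists_dual_family hQ he
  let c : Fin k → Fin k → F := fun i j =>
    if i < j then polar Q (f i) (f j) else if i = j then Q (f j) else 0
  have hts := ts_span (Q := Q) (s := Set.range e) (by rintro _ ⟨i, rfl⟩; exact he0 i)
    (by rintro _ ⟨i, rfl⟩ _ ⟨j, rfl⟩; exact hee i j)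
  have hmem : ∀ j, ∑ i, c i j • e i ∈ Submodule.span F (Set.range e) := fun j =>
    Submodule.sum_mem _ fun i _ => Submodule.smul_mem _ _ (Submodule.subset_span ⟨i, rfl⟩)
  have hpf : ∀ i j, polar Q (f i) (∑ l, c l j • e l) = c i j := by
    intro i j
    rw [← polarBilin_apply_apply, map_sum]
    simp only [LinearMap.map_smul, polarBilin_apply_apply, polar_comm Q (f i), hf]
    simp
  have hQ0 : ∀ j, Q (f j - ∑ i, c i j • e i) = 0 := fun j => by
    rw [map_sub_polar, hts _ (hmem j), hpf]; simp [c]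
  refine ⟨fun j => f j - ∑ i, c i j • e i, hQ0, fun i j => ?_, fun i j => ?_⟩
  · by_cases hij : i = j
    · subst hij; rw [polar_self_eq, hQ0, mul_zero]
    rw [polar_sub_left, polar_sub_right, polar_sub_right, hpf,
      polar_comm Q (∑ l, c l i • e l) (f j), hpf,
      polar_eq_zero_of_ts hts (hmem i) (hmem j)]
    rcases lt_or_gt_of_ne hij with h | h
    · simp [c, h, h.not_gt, h.ne']
    · simp [c, h, h.not_gt, h.ne', polar_comm Q (f i)]
  · rw [polar_sub_right, hf,
      polar_eq_zero_of_ts hts (Submodule.subset_span ⟨i, rfl⟩) (hmem j), sub_zero]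

end FinDim2

end CL.QuadF
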