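import Cfsg.Prelude.Def_Classical
import Cfsg.Agent.QuadF.Index

/-!
# The standard quadratic forms and the classification of non-degenerate forms over finite fields
-/

set_option autoImplicit false

namespace CL.QuadF

open Module QuadraticMap

variable {F V : Type*} [Field F] [AddCommGroup V] [Module F V]

/-! ### The standard forms as `QuadraticForm`s -/

/-- `Cfsg.quadFormPlus` as a quadratic form. -/
def qPlus (m : ℕ) (F : Type*) [Field F] : QuadraticForm F (Fin m ⊕ Fin m → F) :=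
  ∑ i : Fin m, QuadraticMap.proj (Sum.inl i) (Sum.inr i)

/-- `Cfsg.quadFormMinus` as a quadratic form. -/
def qMinus (m : ℕ) (F : Type*) [Field F] (a b : F) :
    QuadraticForm F ((Fin m ⊕ Fin m) ⊕ Fin 2 → F) :=
  (∑ i : Fin m, QuadraticMap.proj (Sum.inl (Sum.inl i)) (Sum.inl (Sum.inr i)))
    + (QuadraticMap.proj (Sum.inr 0) (Sum.inr 0) + a • QuadraticMap.proj (Sum.inr 0) (Sum.inr 1)
      + b • QuadraticMap.proj (Sum.inr 1) (Sum.inr 1))

/-- `Cfsg.quadFormOdd` as a quadratic form. -/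
def qOdd (m : ℕ) (F : Type*) [Field F] : QuadraticForm F (Unit ⊕ (Fin m ⊕ Fin m) → F) :=
  QuadraticMap.proj (Sum.inl ()) (Sum.inl ())
    + ∑ i : Fin m, QuadraticMap.proj (Sum.inr (Sum.inl i)) (Sum.inr (Sum.inr i))

theorem qPlus_apply (m : ℕ) (x : Fin m ⊕ Fin m → F) :
    qPlus m F x = ∑ i : Fin m, x (.inl i) * x (.inr i) := by
  simp [qPlus]

theorem qMinus_apply (m : ℕ) (a b : F) (x : (Fin m ⊕ Fin m) ⊕ Fin 2 → F) :
    qMinus m F a b x = (∑ i : Fin m, x (.inl (.inl i)) * x (.inl (.inr i)))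
      + (x (.inr 0) ^ 2 + a * x (.inr 0) * x (.inr 1) + b * x (.inr 1) ^ 2) := by
  simp [qMinus, pow_two, mul_assoc]

theorem qOdd_apply (m : ℕ) (x : Unit ⊕ (Fin m ⊕ Fin m) → F) :
    qOdd m F x = x (.inl ()) ^ 2 + ∑ i : Fin m, x (.inr (.inl i)) * x (.inr (.inr i)) := by
  simp [qOdd, pow_two]

theorem coe_qPlus (m : ℕ) (F : Type*) [Field F] : ⇑(qPlus m F) = Cfsg.quadFormPlus m F :=
  funext fun x => qPlus_apply m x

theorem coe_qMinus (m : ℕ) (F : Type*) [Field F] (a b : F) :
    ⇑(qMinus m F a b) = Cfsg.quadFormMinus m F a b :=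
  funext fun x => qMinus_apply m a b x

theorem coe_qOdd (m : ℕ) (F : Type*) [Field F] : ⇑(qOdd m F) = Cfsg.quadFormOdd m F :=
  funext fun x => qOdd_apply m x

theorem polar_qPlus (m : ℕ) (x y : Fin m ⊕ Fin m → F) :
    polar (qPlus m F) x y = ∑ i : Fin m, (x (.inl i) * y (.inr i) + x (.inr i) * y (.inl i)) := by
  simp only [polar, qPlus_apply, Pi.add_apply, ← Finset.sum_sub_distrib]
  exact Finset.sum_congr rfl fun i _ => by ring

theorem polar_qMinus (m : ℕ) (a b : F) (x y : (Fin m ⊕ Fin m) ⊕ Fin 2 → F) :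
    polar (qMinus m F a b) x y
      = (∑ i : Fin m, (x (.inl (.inl i)) * y (.inl (.inr i)) + x (.inl (.inr i)) * y (.inl (.inl i))))
        + (2 * x (.inr 0) * y (.inr 0) + a * (x (.inr 0) * y (.inr 1) + x (.inr 1) * y (.inr 0))
          + 2 * b * x (.inr 1) * y (.inr 1)) := by
  have : ∑ i : Fin m, (x (.inl (.inl i)) + y (.inl (.inl i))) * (x (.inl (.inr i)) + y (.inl (.inr i)))
      = ∑ i : Fin m, x (.inl (.inl i)) * x (.inl (.inr i))
        + ∑ i : Fin m, y (.inl (.inl i)) * y (.inl (.inr i))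
        + ∑ i : Fin m, (x (.inl (.inl i)) * y (.inl (.inr i))
          + x (.inl (.inr i)) * y (.inl (.inl i))) := by
    simp only [← Finset.sum_add_distrib]
    exact Finset.sum_congr rfl fun i _ => by ring
  simp only [polar, qMinus_apply, Pi.add_apply, this]
  ring

theorem polar_qOdd (m : ℕ) (x y : Unit ⊕ (Fin m ⊕ Fin m) → F) :
    polar (qOdd m F) x y = 2 * x (.inl ()) * y (.inl ())
      + ∑ i : Fin m, (x (.inr (.inl i)) * y (.inr (.inr i))
        + x (.inr (.inr i)) * y (.inr (.inl i))) := by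
  have : ∑ i : Fin m, (x (.inr (.inl i)) + y (.inr (.inl i))) * (x (.inr (.inr i)) + y (.inr (.inr i)))
      = ∑ i : Fin m, x (.inr (.inl i)) * x (.inr (.inr i))
        + ∑ i : Fin m, y (.inr (.inl i)) * y (.inr (.inr i))
        + ∑ i : Fin m, (x (.inr (.inl i)) * y (.inr (.inr i))
          + x (.inr (.inr i)) * y (.inr (.inl i))) := by
    simp only [← Finset.sum_add_distrib]
    exact Finset.sum_congr rfl fun i _ => by ring
  simp only [polar, qOdd_apply, Pi.add_apply, this]
  ring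

theorem nondeg_qPlus (m : ℕ) (F : Type*) [Field F] : (polarBilin (qPlus m F)).Nondegenerate := by
  rw [nondeg_iff]
  intro x hx
  ext (i | i)
  · simpa [polar_qPlus, Pi.single_apply] using hx (Pi.single (.inr i) 1)
  · simpa [polar_qPlus, Pi.single_apply] using hx (Pi.single (.inl i) 1)

theorem nondeg_qMinus_of_disc (m : ℕ) {a b : F} (h : a ^ 2 - 4 * b ≠ 0) :
    (polarBilin (qMinus m F a b)).Nondegenerate := by
  rw [nondeg_iff]
  intro x hx
  have h0 : 2 * x (.inr 0) + a * x (.inr 1) = 0 := by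
    simpa [polar_qMinus, Pi.single_apply] using hx (Pi.single (.inr 0) 1)
  have h1 : a * x (.inr 0) + 2 * b * x (.inr 1) = 0 := by
    simpa [polar_qMinus, Pi.single_apply] using hx (Pi.single (.inr 1) 1)
  have h2 : x (.inr 0) * (a ^ 2 - 4 * b) = 0 := by linear_combination a * h1 - 2 * b * h0
  have h3 : x (.inr 1) * (a ^ 2 - 4 * b) = 0 := by linear_combination a * h0 - 2 * h1
  ext ((i | i) | i)
  · simpa [polar_qMinus, Pi.single_apply] using hx (Pi.single (.inl (.inr i)) 1)
  · simpa [polar_qMinus, Pi.single_apply] using hx (Pi.single (.inl (.inl i)) 1)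
  · fin_cases i
    · exact (mul_eq_zero.1 h2).resolve_right h
    · exact (mul_eq_zero.1 h3).resolve_right h

theorem nondeg_qOdd (m : ℕ) (h2 : (2 : F) ≠ 0) : (polarBilin (qOdd m F)).Nondegenerate := by
  rw [nondeg_iff]
  intro x hx
  ext (i | i | i)
  · simpa [polar_qOdd, Pi.single_apply, h2] using hx (Pi.single (.inl ()) 1)
  · simpa [polar_qOdd, Pi.single_apply] using hx (Pi.single (.inr (.inr i)) 1)
  · simpa [polar_qOdd, Pi.single_apply] using hx (Pi.single (.inr (.inl i)) 1)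

/-! ### Anisotropic binary forms over finite fields -/

theorem two_ne_zero_iff_ringChar : (2 : F) ≠ 0 ↔ ringChar F ≠ 2 := by
  refine ⟨fun h2 h => h2 ?_, fun h => Ring.two_ne_zero h⟩
  have := ringChar.Nat.cast_ringChar (R := F)
  rw [h] at this
  exact_mod_cast this

theorem isSquare_of_two_eq_zero [Finite F] (h2 : (2 : F) = 0) (a : F) : IsSquare a :=
  FiniteField.isSquare_of_char_two (by
    by_contra h
    exact two_ne_zero_iff_ringChar.2 h h2) a

theorem isSquare_mul_of_not_isSquare [Finite F] {a b : F} (ha : ¬ IsSquare a)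
    (hb : ¬ IsSquare b) : IsSquare (a * b) := by
  classical
  have := Fintype.ofFinite F
  have ha0 : a ≠ 0 := by rintro rfl; exact ha IsSquare.zero
  have hb0 : b ≠ 0 := by rintro rfl; exact hb IsSquare.zero
  rw [← quadraticChar_one_iff_isSquare (mul_ne_zero ha0 hb0), map_mul,
    quadraticChar_neg_one_iff_not_isSquare.2 ha, quadraticChar_neg_one_iff_not_isSquare.2 hb]
  norm_num

theorem isSquare_of_mul_of_ne_zero {a b : F} (ha : IsSquare a) (ha0 : a ≠ 0)
    (hab : IsSquare (a * b)) : IsSquare b := by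
  obtain ⟨r, rfl⟩ := ha
  obtain ⟨s, hs⟩ := hab
  have hr : r ≠ 0 := left_ne_zero_of_mul ha0
  exact ⟨s / r, by field_simp; linear_combination hs⟩

theorem disc_not_isSquare_of_aniso (h2 : (2 : F) ≠ 0) {a b : F}
    (hab : ∀ z₁ z₂ : F, z₁ ^ 2 + a * z₁ * z₂ + b * z₂ ^ 2 = 0 → z₁ = 0 ∧ z₂ = 0) :
    ¬ IsSquare (a ^ 2 - 4 * b) := by
  rintro ⟨r, hr⟩
  have h4 : (4 : F) ≠ 0 := by
    rw [show (4 : F) = 2 * 2 by norm_num]; exact mul_ne_zero h2 h2
  refine one_ne_zero (hab ((r - a) / 2) 1 ?_).2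
  field_simp
  linear_combination -hr

theorem disc_ne_zero_of_aniso [Finite F] {a b : F}
    (hab : ∀ z₁ z₂ : F, z₁ ^ 2 + a * z₁ * z₂ + b * z₂ ^ 2 = 0 → z₁ = 0 ∧ z₂ = 0) :
    a ^ 2 - 4 * b ≠ 0 := by
  by_cases h2 : (2 : F) = 0
  · intro h
    obtain ⟨r, hr⟩ := isSquare_of_two_eq_zero h2 b
    have ha : a = 0 := by
      have : a ^ 2 = 0 := by linear_combination h + 2 * b * h2
      simpa using this
    refine one_ne_zero (hab r 1 ?_).2
    rw [ha, hr]
    linear_combination r * r * h2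
  · intro h
    exact disc_not_isSquare_of_aniso h2 hab (h ▸ IsSquare.zero)

theorem nondeg_qMinus [Finite F] (m : ℕ) {a b : F}
    (hab : ∀ z₁ z₂ : F, z₁ ^ 2 + a * z₁ * z₂ + b * z₂ ^ 2 = 0 → z₁ = 0 ∧ z₂ = 0) :
    (polarBilin (qMinus m F a b)).Nondegenerate :=
  nondeg_qMinus_of_disc m (disc_ne_zero_of_aniso hab)

/-- In a finite field of characteristic two the values of `x² + x` form an additive subgroup of
index two. -/
theorem artin_schreier_add [Finite F] (h2 : (2 : F) = 0) {c d : F} (hc : ∀ x, x ^ 2 + x ≠ c)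
    (hd : ∀ x, x ^ 2 + x ≠ d) : ∃ x, x ^ 2 + x = c + d := by
  let φ : F →+ F :=
    { toFun := fun x => x ^ 2 + x
      map_zero' := by simp
      map_add' := fun x y => by linear_combination x * y * h2 }
  have hker : Nat.card φ.ker = 2 := by
    rw [Nat.card_eq_two_iff]
    refine ⟨⟨0, φ.ker.zero_mem⟩, ⟨1, ?_⟩,
      fun h => zero_ne_one (congrArg Subtype.val h), ?_⟩
    · change (1 : F) ^ 2 + 1 = 0
      linear_combination h2
    · ext ⟨x, hx⟩
      have hx' : x * (x - 1) = 0 := by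
        change x ^ 2 + x = 0 at hx
        linear_combination hx - x * h2
      rcases mul_eq_zero.1 hx' with h | h
      · simp [h]
      · simp [sub_eq_zero.1 h]
  have hidx : φ.range.index = 2 := by
    have h1 := φ.range.card_mul_index
    have h3 := φ.ker.card_mul_index
    rw [AddSubgroup.index_ker, hker, ← h1, mul_comm] at h3
    exact (Nat.eq_of_mul_eq_mul_left Nat.card_pos h3).symm
  have := (AddSubgroup.add_mem_iff_of_index_two hidx (a := c) (b := d)).2
    (iff_of_false (fun ⟨x, hx⟩ => hc x hx) (fun ⟨x, hx⟩ => hd x hx))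
  exact this

/-- Two anisotropic binary forms representing `1` over a finite field are equivalent. -/
theorem aniso_binary_equiv [Finite F] {a b a' b' : F}
    (hab : ∀ z₁ z₂ : F, z₁ ^ 2 + a * z₁ * z₂ + b * z₂ ^ 2 = 0 → z₁ = 0 ∧ z₂ = 0)
    (hab' : ∀ z₁ z₂ : F, z₁ ^ 2 + a' * z₁ * z₂ + b' * z₂ ^ 2 = 0 → z₁ = 0 ∧ z₂ = 0) :
    ∃ s t : F, 2 * s + a' * t = a ∧ s ^ 2 + a' * s * t + b' * t ^ 2 = b := by
  by_cases h2 : (2 : F) = 0
  · have ha : a ≠ 0 := by
      rintro rfl
      exact disc_ne_zero_of_aniso hab (by linear_combination -2 * b * h2)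
    have ha' : a' ≠ 0 := by
      rintro rfl
      exact disc_ne_zero_of_aniso hab' (by linear_combination -2 * b' * h2)
    have key : ∀ {a b : F}, a ≠ 0 →
        (∀ z₁ z₂ : F, z₁ ^ 2 + a * z₁ * z₂ + b * z₂ ^ 2 = 0 → z₁ = 0 ∧ z₂ = 0) →
        ∀ x, x ^ 2 + x ≠ b / a ^ 2 := by
      intro a b ha hab x hx
      refine one_ne_zero (hab (a * x) 1 ?_).2
      field_simp at hx
      linear_combination hx + b * h2
    obtain ⟨x, hx⟩ := artin_schreier_add h2 (key ha hab) (key ha' hab')
    refine ⟨a * x, a / a', ?_, ?_⟩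
    · field_simp
      linear_combination x * h2
    · field_simp at hx ⊢
      linear_combination hx + a ^ 2 * b' * h2
  · obtain ⟨r, hr⟩ := isSquare_mul_of_not_isSquare (disc_not_isSquare_of_aniso h2 hab)
      (disc_not_isSquare_of_aniso h2 hab')
    have hD := disc_ne_zero_of_aniso hab'
    have ht : (a' ^ 2 - 4 * b') * (r / (a' ^ 2 - 4 * b')) ^ 2 = a ^ 2 - 4 * b := by
      field_simp
      linear_combination -hr
    set t := r / (a' ^ 2 - 4 * b')
    refine ⟨(a - a' * t) / 2, t, ?_, ?_⟩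
    · field_simp
      ring
    · field_simp
      linear_combination -ht

/-- There is an anisotropic binary form over every finite field. -/
theorem exists_aniso_binary (F : Type*) [Field F] [Finite F] :
    ∃ a b : F, ∀ z₁ z₂ : F, z₁ ^ 2 + a * z₁ * z₂ + b * z₂ ^ 2 = 0 → z₁ = 0 ∧ z₂ = 0 := by
  have : ∃ b : F, ∀ x : F, x ^ 2 + x ≠ -b := by
    by_contra h
    push Not at h
    have hs : Function.Surjective fun x : F => x ^ 2 + x := fun c => by
      obtain ⟨x, hx⟩ := h (-c)
      exact ⟨x, by simpa using hx⟩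
    have := (Finite.injective_iff_surjective.2 hs) (a₁ := 0) (a₂ := -1) (by simp)
    simp at this
  obtain ⟨b, hb⟩ := this
  refine ⟨1, b, fun z₁ z₂ h => ?_⟩
  by_cases hz : z₂ = 0
  · subst hz; simpa using h
  · exact absurd (by field_simp; linear_combination h) (hb (z₁ / z₂))

/-! ### Isometric embeddings -/

section Emb

variable {V' : Type*} [AddCommGroup V'] [Module F V'] {Q : QuadraticForm F V}
  {Q' : QuadraticForm F V'}

theorem polar_map_lin {f : V' →ₗ[F] V} (hf : ∀ x, Q (f x) = Q' x) (x y : V') :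
    polar Q (f x) (f y) = polar Q' x y :=
  polar_map_of_mem (X := ⊤) (fun x _ => hf x) trivial trivial

theorem injective_of_isometry (hQ' : (polarBilin Q').Nondegenerate) {f : V' →ₗ[F] V}
    (hf : ∀ x, Q (f x) = Q' x) : Function.Injective f := by
  rw [injective_iff_map_eq_zero]
  intro x hx
  exact eq_zero_of_polar hQ' fun y => by rw [← polar_map_lin hf, hx, polar_zero_left]

theorem disjoint_range_perp (hQ' : (polarBilin Q').Nondegenerate) {f : V' →ₗ[F] V}
    (hf : ∀ x, Q (f x) = Q' x) : Disjoint (LinearMap.range f) (perp Q (LinearMap.range f)) := by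
  rw [Submodule.disjoint_def]
  rintro _ ⟨x, rfl⟩ hx
  rw [eq_zero_of_polar hQ' (x := x) fun y => by
    rw [← polar_map_lin hf]; exact mem_perp'.1 hx _ ⟨y, rfl⟩, map_zero]

theorem exists_equiv_of_isometry [FiniteDimensional F V] [FiniteDimensional F V']
    (hQ' : (polarBilin Q').Nondegenerate) {f : V' →ₗ[F] V} (hf : ∀ x, Q (f x) = Q' x)
    (hdim : finrank F V' = finrank F V) : ∃ e : V' ≃ₗ[F] V, ∀ x, Q (e x) = Q' x :=
  ⟨f.linearEquivOfInjective (injective_of_isometry hQ' hf) hdim, hf⟩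

theorem nondeg_of_equiv (hQ' : (polarBilin Q').Nondegenerate) {e : V' ≃ₗ[F] V}
    (he : ∀ x, Q (e x) = Q' x) : (polarBilin Q).Nondegenerate := by
  rw [nondeg_iff]
  intro x hx
  obtain ⟨x, rfl⟩ := e.surjective x
  rw [eq_zero_of_polar hQ' (x := x) fun y => by rw [← polar_map_equiv he, hx], map_zero]

theorem nondeg_smul (hQ : (polarBilin Q).Nondegenerate) {c : F} (hc : c ≠ 0) :
    (polarBilin (c • Q)).Nondegenerate := by
  rw [nondeg_iff]
  intro x hx
  refine eq_zero_of_polar hQ fun y => ?_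
  have := hx y
  simp only [polar, smul_apply, smul_eq_mul] at this ⊢
  rw [← mul_sub, ← mul_sub] at this
  exact (mul_eq_zero.1 this).resolve_left hc

/-- Totally singular subspaces transfer along isometries. -/
theorem exists_ts_of_equiv {e : V' ≃ₗ[F] V} (he : ∀ x, Q (e x) = Q' x) {W : Submodule F V'}
    (hW : ∀ w ∈ W, Q' w = 0) :
    ∃ X : Submodule F V, finrank F X = finrank F W ∧ ∀ w ∈ X, Q w = 0 :=
  ⟨W.map (e : V' →ₗ[F] V), LinearEquiv.finrank_map_eq _ _, by
    rintro _ ⟨w, hw, rfl⟩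
    exact (he w).trans (hW w hw)⟩

end Emb

/-- The value of `Q` on a combination of a hyperbolic family. -/
theorem map_hyperbolic_comb {Q : QuadraticForm F V} {k : ℕ} {e f : Fin k → V}
    (he0 : ∀ i, Q (e i) = 0) (hee : ∀ i j, polar Q (e i) (e j) = 0)
    (hf0 : ∀ i, Q (f i) = 0) (hff : ∀ i j, polar Q (f i) (f j) = 0)
    (hef : ∀ i j, polar Q (e i) (f j) = if i = j then 1 else 0) (x : Fin k ⊕ Fin k → F) :
    Q (Fintype.linearCombination F (Sum.elim e f) x) = qPlus k F x := by
  have hts : ∀ {g : Fin k → V}, (∀ i, Q (g i) = 0) → (∀ i j, polar Q (g i) (g j) = 0) →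
      ∀ c : Fin k → F, Q (∑ i, c i • g i) = 0 := fun {g} h1 h2 c =>
    ts_span (Q := Q) (s := Set.range g) (by rintro _ ⟨i, rfl⟩; exact h1 i)
      (by rintro _ ⟨i, rfl⟩ _ ⟨j, rfl⟩; exact h2 i j) _
      (Submodule.sum_mem _ fun i _ => Submodule.smul_mem _ _ (Submodule.subset_span ⟨i, rfl⟩))
  rw [Fintype.linearCombination_apply, Fintype.sum_sum_type, map_add_polar]
  simp only [Sum.elim_inl, Sum.elim_inr]
  rw [hts he0 hee, hts hf0 hff, qPlus_apply, ← polarBilin_apply_apply]
  simp only [map_sum, LinearMap.map_smul, LinearMap.sum_apply, LinearMap.smul_apply,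
    polarBilin_apply_apply, hef, smul_eq_mul]
  simp [mul_comm]

section FinDim

variable [FiniteDimensional F V] {Q : QuadraticForm F V}

/-- A totally singular subspace `W` of dimension `k` lies in an isometric copy of the hyperbolic
space of dimension `2 k`, as the span of the first `k` coordinates. -/
theorem exists_hyperbolic_map (hQ : (polarBilin Q).Nondegenerate) {W : Submodule F V}
    (hW : ∀ w ∈ W, Q w = 0) {k : ℕ} (hk : finrank F W = k) :
    ∃ φ : (Fin k ⊕ Fin k → F) →ₗ[F] V, (∀ x, Q (φ x) = qPlus k F x) ∧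
      W = Submodule.span F (Set.range fun i => φ (Pi.single (.inl i) 1)) := by
  let b := finBasisOfFinrankEq F W hk
  have hli : LinearIndependent F fun i => (b i : V) :=
    b.linearIndependent.map' W.subtype (Submodule.ker_subtype W)
  obtain ⟨f, hf0, hff, hef⟩ := exists_hyperbolic_family hQ hli (fun i => hW _ (b i).2)
    (fun i j => polar_eq_zero_of_ts hW (b i).2 (b j).2)
  refine ⟨Fintype.linearCombination F (Sum.elim (fun i => (b i : V)) f),
    map_hyperbolic_comb (fun i => hW _ (b i).2) (fun i j => polar_eq_zero_of_ts hW (b i).2 (b j).2)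
      hf0 hff hef, ?_⟩
  simp only [Fintype.linearCombination_apply_single, one_smul, Sum.elim_inl]
  have := congrArg (Submodule.map W.subtype) b.span_eq
  rw [Submodule.map_span, ← Set.range_comp, Submodule.map_subtype_top] at this
  exact this.symm

/-- Plus type: a non-degenerate space of dimension `2 m` with a totally singular `m`-space is
isometric to the hyperbolic space. -/
theorem exists_equiv_plus (hQ : (polarBilin Q).Nondegenerate) {m : ℕ} (hV : finrank F V = 2 * m)
    {W : Submodule F V} (hW : ∀ w ∈ W, Q w = 0) (hk : finrank F W = m) :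
    ∃ e : (Fin m ⊕ Fin m → F) ≃ₗ[F] V, ∀ x, Q (e x) = qPlus m F x := by
  obtain ⟨φ, hφ, -⟩ := exists_hyperbolic_map hQ hW hk
  exact exists_equiv_of_isometry (nondeg_qPlus m F) hφ (by simp [hV, two_mul])

/-- Witt decomposition: a hyperbolic part and an anisotropic part. -/
theorem exists_witt_decomp (hQ : (polarBilin Q).Nondegenerate) :
    ∃ (k : ℕ) (φ : (Fin k ⊕ Fin k → F) →ₗ[F] V), (∀ x, Q (φ x) = qPlus k F x) ∧
      (∃ W : Submodule F V, (∀ w ∈ W, Q w = 0) ∧ finrank F W = k) ∧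
      (∀ X : Submodule F V, (∀ w ∈ X, Q w = 0) → finrank F X ≤ k) ∧
      (∀ u ∈ perp Q (LinearMap.range φ), Q u = 0 → u = 0) ∧
      2 * k + finrank F (perp Q (LinearMap.range φ)) = finrank F V := by
  obtain ⟨W, hW, hmax⟩ := exists_ts_max Q
  obtain ⟨φ, hφ, hWφ⟩ := exists_hyperbolic_map hQ hW rfl
  have hle : W ≤ LinearMap.range φ := by
    refine hWφ.le.trans (Submodule.span_le.2 ?_)
    rintro _ ⟨i, rfl⟩
    exact ⟨_, rfl⟩
  refine ⟨_, φ, hφ, ⟨W, hW, rfl⟩, hmax, fun u hu hu0 => ?_, ?_⟩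
  · have h1 := hmax _ (ts_sup hW (ts_span_singleton hu0)
      ((Submodule.span_singleton_le_iff_mem _ _).2 (perp_anti hle hu)))
    have h2 : W = W ⊔ F ∙ u := Submodule.eq_of_le_of_finrank_le le_sup_left h1
    have h3 : u ∈ W := by
      rw [h2]; exact Submodule.mem_sup_right (Submodule.mem_span_singleton_self u)
    exact Submodule.disjoint_def.1 (disjoint_range_perp (nondeg_qPlus _ F) hφ) u (hle h3) hu
  · rw [← finrank_add_finrank_perp hQ (LinearMap.range φ),
      LinearMap.finrank_range_of_inj (injective_of_isometry (nondeg_qPlus _ F) hφ)]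
    simp [two_mul]

omit [FiniteDimensional F V] in
theorem finrank_le_two_of_aniso [Finite F] {U : Submodule F V} (hU : ∀ u ∈ U, Q u = 0 → u = 0) :
    finrank F U ≤ 2 := by
  by_contra h
  obtain ⟨v, hv, hv0, hQv⟩ := exists_singular_mem Q U (by omega)
  exact hv0 (hU v hv hQv)

theorem exists_le_finrank_eq (W : Submodule F V) {k : ℕ} (hk : k ≤ finrank F W) :
    ∃ X : Submodule F V, X ≤ W ∧ finrank F X = k := by
  obtain ⟨f, hf⟩ := (finrank_le_iff_exists_linearMap (R := F) (M := Fin k → F) (M' := W)).1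
    (by simpa using hk)
  refine ⟨LinearMap.range (W.subtype ∘ₗ f), ?_, ?_⟩
  · rintro _ ⟨x, rfl⟩
    exact (f x).2
  · rw [LinearMap.finrank_range_of_inj (f := W.subtype ∘ₗ f) (W.injective_subtype.comp hf)]
    simp

/-- Over a finite field there is a totally singular subspace of every dimension `k` with
`2 k + 2 ≤ dim V` or `2 k + 1 = dim V`. -/
theorem exists_ts_of_finite [Finite F] (hQ : (polarBilin Q).Nondegenerate) {k : ℕ}
    (hk : 2 * k + 1 ≤ finrank F V) :
    ∃ W : Submodule F V, (∀ w ∈ W, Q w = 0) ∧ finrank F W = k := by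
  obtain ⟨l, φ, -, ⟨W, hW, hWl⟩, -, hU, hdim⟩ := exists_witt_decomp hQ
  have := finrank_le_two_of_aniso hU
  obtain ⟨X, hX, hXk⟩ := exists_le_finrank_eq W (k := k) (by omega)
  exact ⟨X, fun w hw => hW w (hX hw), hXk⟩

/-- Minus type: over a finite field, a non-degenerate space of dimension `2 m + 2` without a
totally singular `(m + 1)`-space is isometric to each standard minus-type space. -/
theorem exists_equiv_minus [Finite F] (hQ : (polarBilin Q).Nondegenerate) {m : ℕ}
    (hV : finrank F V = 2 * m + 2)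
    (hno : ¬ ∃ W : Submodule F V, finrank F W = m + 1 ∧ ∀ w ∈ W, Q w = 0) {a b : F}
    (hab : ∀ z₁ z₂ : F, z₁ ^ 2 + a * z₁ * z₂ + b * z₂ ^ 2 = 0 → z₁ = 0 ∧ z₂ = 0) :
    ∃ e : ((Fin m ⊕ Fin m) ⊕ Fin 2 → F) ≃ₗ[F] V, ∀ x, Q (e x) = qMinus m F a b x := by
  obtain ⟨l, φ, hφ, ⟨W, hW, hWl⟩, -, hU, hdim⟩ := exists_witt_decomp hQ
  have h2 := finrank_le_two_of_aniso hU
  have hl : l = m := by
    by_contra hne
    exact hno ⟨W, by omega, hW⟩
  subst hl
  have hdisj : Disjoint (perp Q (LinearMap.range φ)) (perp Q (perp Q (LinearMap.range φ))) := by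
    rw [perp_perp hQ]; exact (disjoint_range_perp (nondeg_qPlus _ F) hφ).symm
  obtain ⟨u, hu, hu1⟩ := exists_map_eq_mem hdisj (by omega) 1
  have hu0 : u ≠ 0 := ne_zero_of_map_ne_zero (by rw [hu1]; exact one_ne_zero)
  obtain ⟨w, hw, hwu⟩ : ∃ w ∈ perp Q (LinearMap.range φ), w ∉ F ∙ u := by
    by_contra hc
    push Not at hc
    have := Submodule.finrank_mono (show perp Q (LinearMap.range φ) ≤ F ∙ u from hc)
    rw [finrank_span_singleton hu0] at this
    omega
  have hcomb : ∀ (w : V) (s t : F),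
      Q (s • u + t • w) = s ^ 2 + polar Q u w * s * t + Q w * t ^ 2 := by
    intro w s t
    simp only [map_add_polar, map_smul_sq, polar_smul_left, polar_smul_right, smul_eq_mul, hu1]
    ring
  have hab' : ∀ z₁ z₂ : F, z₁ ^ 2 + polar Q u w * z₁ * z₂ + Q w * z₂ ^ 2 = 0 →
      z₁ = 0 ∧ z₂ = 0 := by
    intro s t h
    rw [← hcomb] at h
    have h0 := hU _ (Submodule.add_mem _ (Submodule.smul_mem _ s hu) (Submodule.smul_mem _ t hw)) h
    have ht : t = 0 := by
      by_contra ht
      apply hwu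
      have : w = (-s / t) • u := by
        rw [div_eq_inv_mul, mul_smul, eq_inv_smul_iff₀ ht, neg_smul]
        exact eq_neg_of_add_eq_zero_right h0
      rw [this]
      exact Submodule.smul_mem _ _ (Submodule.mem_span_singleton_self u)
    subst ht
    simpa [hu0] using h0
  obtain ⟨s, t, hs, ht⟩ := aniso_binary_equiv hab hab'
  have hw' : s • u + t • w ∈ perp Q (LinearMap.range φ) :=
    Submodule.add_mem _ (Submodule.smul_mem _ s hu) (Submodule.smul_mem _ t hw)
  have hQw' : Q (s • u + t • w) = b := by rw [hcomb, ht]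
  have hpw' : polar Q u (s • u + t • w) = a := by
    rw [polar_add_right, polar_smul_right, polar_smul_right, polar_self_eq, hu1, ← hs]
    simp only [smul_eq_mul]; ring
  set w' := s • u + t • w
  let ψ : ((Fin l ⊕ Fin l) ⊕ Fin 2 → F) →ₗ[F] V :=
    φ ∘ₗ LinearMap.funLeft F F Sum.inl
      + ((LinearMap.proj (Sum.inr 0)).smulRight u + (LinearMap.proj (Sum.inr 1)).smulRight w')
  refine exists_equiv_of_isometry (nondeg_qMinus l hab) (f := ψ) (fun x => ?_)
    (by simp [hV, two_mul])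
  have : ψ x = φ (fun i => x (.inl i)) + (x (.inr 0) • u + x (.inr 1) • w') := rfl
  rw [this, map_add_polar, hφ, hcomb, hpw', hQw', qPlus_apply, qMinus_apply,
    mem_perp.1 (Submodule.add_mem _ (Submodule.smul_mem _ _ hu) (Submodule.smul_mem _ _ hw')) _
      ⟨_, rfl⟩, add_zero]

/-- Odd dimension: over a finite field, a non-degenerate space of dimension `2 m + 1` is similar
to the standard space. -/
theorem exists_equiv_odd [Finite F] (hQ : (polarBilin Q).Nondegenerate) {m : ℕ}
    (hV : finrank F V = 2 * m + 1) :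
    (2 : F) ≠ 0 ∧ ∃ (c : F) (e : (Unit ⊕ (Fin m ⊕ Fin m) → F) ≃ₗ[F] V),
      c ≠ 0 ∧ ∀ x, Q (e x) = c * qOdd m F x := by
  obtain ⟨l, φ, hφ, -, -, hU, hdim⟩ := exists_witt_decomp hQ
  have h2 := finrank_le_two_of_aniso hU
  have hl : l = m := by omega
  subst hl
  have hnd := nondeg_restr_perp hQ (disjoint_range_perp (nondeg_qPlus _ F) hφ)
  have h1 : finrank F (perp Q (LinearMap.range φ)) = 1 := by omega
  obtain ⟨u, hu0, hu⟩ := finrank_eq_one_iff'.1 h1
  obtain ⟨y, hy⟩ := exists_polar_ne_zero hnd hu0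
  obtain ⟨r, rfl⟩ := hu y
  rw [polar_smul_right, polar_self_eq, smul_eq_mul, restr_apply] at hy
  have htwo : (2 : F) ≠ 0 := left_ne_zero_of_mul (right_ne_zero_of_mul hy)
  have hc : Q u ≠ 0 := right_ne_zero_of_mul (right_ne_zero_of_mul hy)
  let ψ : (Unit ⊕ (Fin l ⊕ Fin l) → F) →ₗ[F] V :=
    φ ∘ₗ (LinearMap.pi (Sum.elim (fun i => Q u • LinearMap.proj (Sum.inr (Sum.inl i)))
      (fun i => LinearMap.proj (Sum.inr (Sum.inr i)))))
      + (LinearMap.proj (Sum.inl ())).smulRight (u : V)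
  obtain ⟨e, he⟩ := exists_equiv_of_isometry (Q := Q) (nondeg_smul (nondeg_qOdd l htwo) hc)
    (f := ψ) (fun x => by
      simp only [ψ, LinearMap.add_apply, LinearMap.comp_apply, LinearMap.smulRight_apply]
      rw [map_add_polar, hφ, map_smul_sq, polar_smul_right, mem_perp.1 u.2 _ ⟨_, rfl⟩,
        qPlus_apply, smul_apply, qOdd_apply]
      simp [Finset.mul_sum, mul_add, mul_assoc, mul_comm, add_comm, mul_left_comm])
    (by simp [hV, two_mul, add_comm])
  exact ⟨htwo, Q u, e, hc, he⟩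

/-- The standard plus-type space has a totally singular subspace of half the dimension. -/
theorem exists_ts_qPlus (m : ℕ) (F : Type*) [Field F] :
    ∃ W : Submodule F (Fin m ⊕ Fin m → F), finrank F W = m ∧ ∀ w ∈ W, qPlus m F w = 0 := by
  let f : (Fin m → F) →ₗ[F] (Fin m ⊕ Fin m → F) :=
    LinearMap.pi (Sum.elim (fun i => LinearMap.proj i) (fun _ => 0))
  have hf : Function.Injective f := fun x y h => funext fun i => congrFun h (.inl i)
  refine ⟨LinearMap.range f, by rw [LinearMap.finrank_range_of_inj hf]; simp, ?_⟩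
  rintro _ ⟨x, rfl⟩
  simp [qPlus_apply, f]

/-- The standard minus-type space has Witt index `m`. -/
theorem not_exists_ts_qMinus [Finite F] (m : ℕ) {a b : F}
    (hab : ∀ z₁ z₂ : F, z₁ ^ 2 + a * z₁ * z₂ + b * z₂ ^ 2 = 0 → z₁ = 0 ∧ z₂ = 0) :
    ¬ ∃ W : Submodule F ((Fin m ⊕ Fin m) ⊕ Fin 2 → F),
      finrank F W = m + 1 ∧ ∀ w ∈ W, qMinus m F a b w = 0 := by
  rintro ⟨W, hW, hts⟩
  let f : (Fin m → F) →ₗ[F] ((Fin m ⊕ Fin m) ⊕ Fin 2 → F) :=
    LinearMap.pi (Sum.elim (Sum.elim (fun i => LinearMap.proj i) (fun _ => 0)) (fun _ => 0))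
  have hf : Function.Injective f := fun x y h => funext fun i => congrFun h (.inl (.inl i))
  have hX : ∀ w ∈ LinearMap.range f, qMinus m F a b w = 0 := by
    rintro _ ⟨x, rfl⟩
    simp [qMinus_apply, f]
  have := finrank_le_of_maximal_ts (nondeg_qMinus m hab) hX hts (fun Y hle hY => by
    refine le_antisymm (fun y hy => ?_) hle
    have h1 : ∀ i, y (.inl (.inr i)) = 0 := fun i => by
      have := polar_eq_zero_of_ts hY hy (hle ⟨Pi.single i 1, rfl⟩)
      simpa [polar_qMinus, f, Pi.single_apply] using this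
    have h2 := hY y hy
    rw [qMinus_apply] at h2
    simp only [h1, mul_zero, Finset.sum_const_zero, zero_add] at h2
    refine ⟨fun i => y (.inl (.inl i)), ?_⟩
    ext ((i | i) | i)
    · simp [f]
    · simp [f, h1]
    · fin_cases i
      · simpa [f] using (hab _ _ h2).1.symm
      · simpa [f] using (hab _ _ h2).2.symm)
  rw [LinearMap.finrank_range_of_inj hf] at this
  simp at this
  omega

/-- Classification in even dimension over a finite field: the dimension and the type (existence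
of a totally singular subspace of half the dimension) determine the form up to isometry. -/
theorem exists_equiv_of_type_eq [Finite F] {V' : Type*} [AddCommGroup V'] [Module F V']
    [FiniteDimensional F V'] {Q' : QuadraticForm F V'} (hQ : (polarBilin Q).Nondegenerate)
    (hQ' : (polarBilin Q').Nondegenerate) {m : ℕ} (hV : finrank F V = 2 * m)
    (hV' : finrank F V' = 2 * m)
    (h : (∃ W : Submodule F V, finrank F W = m ∧ ∀ w ∈ W, Q w = 0) ↔
      (∃ W : Submodule F V', finrank F W = m ∧ ∀ w ∈ W, Q' w = 0)) :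
    ∃ e : V' ≃ₗ[F] V, ∀ x, Q (e x) = Q' x := by
  by_cases hp : ∃ W : Submodule F V, finrank F W = m ∧ ∀ w ∈ W, Q w = 0
  · obtain ⟨W', hW', hts'⟩ := h.1 hp
    obtain ⟨W, hW, hts⟩ := hp
    obtain ⟨e, he⟩ := exists_equiv_plus hQ hV hts hW
    obtain ⟨e', he'⟩ := exists_equiv_plus hQ' hV' hts' hW'
    exact ⟨e'.symm.trans e, fun x => by rw [LinearEquiv.trans_apply, he, ← he']; simp⟩
  · have hp' := fun h' => hp (h.2 h')
    obtain ⟨a, b, hab⟩ := exists_aniso_binary F
    obtain rfl | ⟨l, rfl⟩ := m.eq_zero_or_eq_succ_pred.imp id fun h => (⟨_, h⟩ : ∃ l, m = l + 1)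
    · exact absurd ⟨⊥, by simp, by simp⟩ hp
    obtain ⟨e, he⟩ := exists_equiv_minus hQ (m := l) (by omega) hp hab
    obtain ⟨e', he'⟩ := exists_equiv_minus hQ' (m := l) (by omega) hp' hab
    exact ⟨e'.symm.trans e, fun x => by rw [LinearEquiv.trans_apply, he, ← he']; simp⟩

/-- Classification in odd dimension over a finite field: any two non-degenerate forms are
similar. -/
theorem exists_equiv_smul_of_odd [Finite F] {V' : Type*} [AddCommGroup V'] [Module F V']
    [FiniteDimensional F V'] {Q' : QuadraticForm F V'} (hQ : (polarBilin Q).Nondegenerate)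
    (hQ' : (polarBilin Q').Nondegenerate) (hodd : Odd (finrank F V))
    (hV' : finrank F V' = finrank F V) :
    ∃ (e : V' ≃ₗ[F] V) (c : F), c ≠ 0 ∧ ∀ x, Q (e x) = c * Q' x := by
  obtain ⟨m, hm⟩ := hodd
  obtain ⟨-, c, e, hc, he⟩ := exists_equiv_odd hQ hm
  obtain ⟨-, c', e', hc', he'⟩ := exists_equiv_odd hQ' (hV'.trans hm)
  refine ⟨e'.symm.trans e, c / c', div_ne_zero hc hc', fun x => ?_⟩
  obtain ⟨y, rfl⟩ := e'.surjective x
  rw [LinearEquiv.trans_apply, he, he', LinearEquiv.symm_apply_apply]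
  field_simp

end FinDim

end CL.QuadF
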