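import Cfsg.Agent.Base

/-!
# Witt's extension theorem for quadratic forms (any field, any characteristic)

For a quadratic form `Q` on a finite-dimensional space whose polar form is non-degenerate, every
`Q`-isometry between subspaces extends to an isometry of the whole space; the extension is found
inside any group of isometries containing the reflections and the Eichler maps.
-/

set_option autoImplicit false

namespace CL.QuadF

open Module QuadraticMap

variable {F V : Type*} [Field F] [AddCommGroup V] [Module F V]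

/-- Separation of a vector from a subspace by a non-degenerate bilinear form. -/
theorem exists_dual_vec [FiniteDimensional F V] {B : LinearMap.BilinForm F V}
    (hB : B.Nondegenerate) {H : Submodule F V} {x : V} (hx : x ∉ H) :
    ∃ w, B w x = 1 ∧ ∀ h ∈ H, B w h = 0 := by
  obtain ⟨f, hf, hH⟩ := Submodule.exists_le_ker_of_notMem hx
  refine ⟨(f x)⁻¹ • (B.toDual hB).symm f, ?_, fun h hh => ?_⟩
  · simp [LinearMap.BilinForm.apply_toDual_symm_apply, hf]
  · have : f h = 0 := hH hh
    simp [LinearMap.BilinForm.apply_toDual_symm_apply, this]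

/-- Separation of a vector from a subspace by the polar form. -/
theorem exists_polar_vec [FiniteDimensional F V] {Q : QuadraticForm F V}
    (hQ : (polarBilin Q).Nondegenerate) {H : Submodule F V} {x : V} (hx : x ∉ H) :
    ∃ w, polar Q w x = 1 ∧ ∀ h ∈ H, polar Q w h = 0 :=
  exists_dual_vec (B := polarBilin Q) hQ hx

theorem map_add_polar (Q : QuadraticForm F V) (x y : V) :
    Q (x + y) = Q x + Q y + polar Q x y := by
  simp [polar]

theorem map_sub_polar (Q : QuadraticForm F V) (x y : V) :
    Q (x - y) = Q x + Q y - polar Q x y := by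
  rw [sub_eq_add_neg, map_add_polar, QuadraticMap.map_neg, polar_neg_right]; ring

theorem map_smul_sq (Q : QuadraticForm F V) (a : F) (x : V) : Q (a • x) = a ^ 2 * Q x := by
  rw [QuadraticMap.map_smul, smul_eq_mul]; ring

theorem polar_self_eq (Q : QuadraticForm F V) (x : V) : polar Q x x = 2 * Q x := by
  rw [polar_self]; simp

/-- A linear map preserving `Q` on a subspace preserves the polar form there. -/
theorem polar_map_of_mem {V' : Type*} [AddCommGroup V'] [Module F V'] {Q : QuadraticForm F V}
    {Q' : QuadraticForm F V'} {f : V →ₗ[F] V'} {X : Submodule F V}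
    (hf : ∀ x ∈ X, Q' (f x) = Q x) {x y : V} (hx : x ∈ X) (hy : y ∈ X) :
    polar Q' (f x) (f y) = polar Q x y := by
  simp only [polar]
  rw [← map_add, hf _ (X.add_mem hx hy), hf _ hx, hf _ hy]

/-- An isometry preserves the polar form. -/
theorem polar_map_equiv {V' : Type*} [AddCommGroup V'] [Module F V'] {Q : QuadraticForm F V}
    {Q' : QuadraticForm F V'} {g : V ≃ₗ[F] V'} (hg : ∀ x, Q' (g x) = Q x) (x y : V) :
    polar Q' (g x) (g y) = polar Q x y :=
  polar_map_of_mem (f := (g : V →ₗ[F] V')) (X := ⊤) (fun x _ => hg x) trivial trivial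

/-- A singular vector outside a subspace `H` to which it is orthogonal has a singular hyperbolic
partner orthogonal to `H`. -/
theorem exists_partner [FiniteDimensional F V] {Q : QuadraticForm F V}
    (hQ : (polarBilin Q).Nondegenerate) {H : Submodule F V} {p : V} (hp : p ∉ H) (hp0 : Q p = 0)
    (hpH : ∀ h ∈ H, polar Q p h = 0) :
    ∃ q, Q q = 0 ∧ polar Q p q = 1 ∧ ∀ h ∈ H, polar Q q h = 0 := by
  obtain ⟨w, hw, hwH⟩ := exists_polar_vec hQ hp
  refine ⟨w - Q w • p, ?_, ?_, fun h hh => ?_⟩
  · rw [map_sub_polar, map_smul_sq, polar_smul_right, hw, hp0]; simp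
  · rw [polar_sub_right, polar_smul_right, polar_self_eq, hp0, polar_comm, hw]; simp
  · rw [polar_sub_left, polar_smul_left, hwH h hh, hpH h hh]; simp

/-- The reflection in a non-singular vector, as a linear map. -/
def reflLin (Q : QuadraticForm F V) (v : V) : V →ₗ[F] V :=
  LinearMap.id - ((Q v)⁻¹ • polarBilin Q v).smulRight v

theorem reflLin_apply (Q : QuadraticForm F V) (v x : V) :
    reflLin Q v x = x - (polar Q v x / Q v) • v := by
  simp [reflLin, div_eq_inv_mul]

theorem map_refl_formula (Q : QuadraticForm F V) {v : V} (hv : Q v ≠ 0) (x : V) :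
    Q (x - (polar Q v x / Q v) • v) = Q x := by
  rw [map_sub_polar, map_smul_sq, polar_smul_right, polar_comm Q x v]
  simp only [smul_eq_mul]
  field_simp
  ring

theorem reflLin_reflLin (Q : QuadraticForm F V) {v : V} (hv : Q v ≠ 0) (x : V) :
    reflLin Q v (reflLin Q v x) = x := by
  simp only [reflLin_apply, polar_sub_right, polar_smul_right, polar_self_eq, smul_eq_mul]
  have : (polar Q v x - polar Q v x / Q v * (2 * Q v)) / Q v = -(polar Q v x / Q v) := by
    field_simp
    ring
  rw [this]
  simp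

/-- The reflection in a non-singular vector, as a linear equivalence. -/
def reflEquiv (Q : QuadraticForm F V) (v : V) (hv : Q v ≠ 0) : V ≃ₗ[F] V :=
  LinearEquiv.ofInvolutive (reflLin Q v) (reflLin_reflLin Q hv)

theorem reflEquiv_apply (Q : QuadraticForm F V) (v : V) (hv : Q v ≠ 0) (x : V) :
    reflEquiv Q v hv x = x - (polar Q v x / Q v) • v :=
  reflLin_apply Q v x

theorem map_reflEquiv (Q : QuadraticForm F V) (v : V) (hv : Q v ≠ 0) (x : V) :
    Q (reflEquiv Q v hv x) = Q x := by
  rw [reflEquiv_apply, map_refl_formula Q hv]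

/-- The Eichler (Siegel) map attached to `u`, `w`, as a linear map. -/
def eichlerLin (Q : QuadraticForm F V) (u w : V) : V →ₗ[F] V :=
  LinearMap.id + (polarBilin Q u).smulRight w - (polarBilin Q w).smulRight u
    - (Q w • polarBilin Q u).smulRight u

theorem eichlerLin_apply (Q : QuadraticForm F V) (u w x : V) :
    eichlerLin Q u w x
      = x + polar Q u x • w - polar Q w x • u - (Q w * polar Q u x) • u := by
  simp [eichlerLin]

theorem map_eichler_formula (Q : QuadraticForm F V) {u w : V} (hu : Q u = 0)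
    (huw : polar Q u w = 0) (x : V) :
    Q (x + polar Q u x • w - polar Q w x • u - (Q w * polar Q u x) • u) = Q x := by
  rw [sub_sub, ← add_smul, map_sub_polar, map_add_polar, map_smul_sq, map_smul_sq, hu,
    polar_smul_right, polar_smul_right, polar_add_left, polar_smul_left, polar_comm Q w u, huw,
    polar_comm Q x u, polar_comm Q x w]
  simp only [smul_eq_mul]
  ring

theorem eichlerLin_eichlerLin (Q : QuadraticForm F V) {u w w' : V} (hu : Q u = 0)
    (huw : polar Q u w = 0) (huw' : polar Q u w' = 0) (x : V) :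
    eichlerLin Q u w (eichlerLin Q u w' x) = eichlerLin Q u (w + w') x := by
  simp only [eichlerLin_apply, polar_sub_right, polar_add_right, polar_smul_right, polar_self_eq,
    hu, huw', polar_comm Q w u, huw, smul_eq_mul, map_add_polar, polar_add_left]
  module

theorem eichlerLin_zero (Q : QuadraticForm F V) (u x : V) : eichlerLin Q u 0 x = x := by
  simp [eichlerLin_apply]

/-- The Eichler (Siegel) map attached to a singular `u` and `w ⊥ u`, as a linear equivalence. -/
def eichlerEquiv (Q : QuadraticForm F V) (u w : V) (hu : Q u = 0) (huw : polar Q u w = 0) :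
    V ≃ₗ[F] V :=
  LinearEquiv.ofLinearMap (eichlerLin Q u w) (eichlerLin Q u (-w))
    (by
      ext x
      have : polar Q u (-w) = 0 := by rw [polar_neg_right, huw, neg_zero]
      simp only [LinearMap.comp_apply, LinearMap.id_apply]
      rw [eichlerLin_eichlerLin Q hu huw this, add_neg_cancel, eichlerLin_zero])
    (by
      ext x
      have : polar Q u (-w) = 0 := by rw [polar_neg_right, huw, neg_zero]
      simp only [LinearMap.comp_apply, LinearMap.id_apply]
      rw [eichlerLin_eichlerLin Q hu this huw, neg_add_cancel, eichlerLin_zero])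

theorem eichlerEquiv_apply (Q : QuadraticForm F V) (u w : V) (hu : Q u = 0)
    (huw : polar Q u w = 0) (x : V) :
    eichlerEquiv Q u w hu huw x
      = x + polar Q u x • w - polar Q w x • u - (Q w * polar Q u x) • u :=
  eichlerLin_apply Q u w x

theorem map_eichlerEquiv (Q : QuadraticForm F V) (u w : V) (hu : Q u = 0)
    (huw : polar Q u w = 0) (x : V) : Q (eichlerEquiv Q u w hu huw x) = Q x := by
  rw [eichlerEquiv_apply, map_eichler_formula Q hu huw]

section Gen

variable {Q : QuadraticForm F V} {K : Subgroup (V ≃ₗ[F] V)}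

theorem refl_step
    (hR : ∀ v, Q v ≠ 0 → ∃ g ∈ K, ∀ x, g x = x - (polar Q v x / Q v) • v)
    {a b : V} (hab : Q b = Q a) (h : Q (b - a) ≠ 0) :
    ∃ g ∈ K, g a = b ∧ ∀ x, polar Q (b - a) x = 0 → g x = x := by
  obtain ⟨g, hgK, hg⟩ := hR _ h
  refine ⟨g, hgK, ?_, fun x hx => by rw [hg, hx]; simp⟩
  have h1 : polar Q (b - a) a = -Q (b - a) := by
    rw [map_sub_polar, polar_sub_left, polar_self_eq, hab]; ring
  rw [hg, h1, neg_div, div_self h]
  simp

/-- One step of Witt's theorem. -/
theorem witt_step [FiniteDimensional F V] (hQ : (polarBilin Q).Nondegenerate)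
    (hR : ∀ v, Q v ≠ 0 → ∃ g ∈ K, ∀ x, g x = x - (polar Q v x / Q v) • v)
    (hE : ∀ u w, Q u = 0 → polar Q u w = 0 → ∃ g ∈ K, ∀ x,
      g x = x + polar Q u x • w - polar Q w x • u - (Q w * polar Q u x) • u)
    {H : Submodule F V} {u u' : V} (hu : u ∉ H) (hu' : u' ∉ H) (hQu : Q u' = Q u)
    (hpol : ∀ h ∈ H, polar Q u' h = polar Q u h) :
    ∃ g ∈ K, g u = u' ∧ ∀ h ∈ H, g h = h := by
  have hpH : ∀ h ∈ H, polar Q (u' - u) h = 0 := fun h hh => by
    rw [polar_sub_left, hpol h hh, sub_self]
  by_cases hp : Q (u' - u) = 0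
  swap
  · obtain ⟨g, hgK, hg1, hg2⟩ := refl_step hR hQu hp
    exact ⟨g, hgK, hg1, fun h hh => hg2 h (hpH h hh)⟩
  set p := u' - u with hpdef
  have hu'eq : u' = u + p := by rw [hpdef]; abel
  have hup : polar Q p u = 0 := by
    have := map_add_polar Q u p
    rw [← hu'eq, hQu, hp, polar_comm] at this
    linear_combination -this
  by_cases hmem : u ∈ H ⊔ F ∙ p
  · obtain ⟨h0, hh0, z, hz, hsum⟩ := Submodule.mem_sup.1 hmem
    obtain ⟨c, rfl⟩ := Submodule.mem_span_singleton.1 hz
    have hc : c ≠ 0 := by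
      rintro rfl
      apply hu
      rw [← hsum]; simpa using hh0
    have hu'2 : u' = h0 + (c + 1) • p := by rw [hu'eq, ← hsum, add_smul, one_smul, add_assoc]
    have hc1 : c + 1 ≠ 0 := by
      intro h0'
      apply hu'
      rw [hu'2, h0']; simpa using hh0
    have hpn : p ∉ H := fun hpm => hu (hsum ▸ H.add_mem hh0 (H.smul_mem c hpm))
    obtain ⟨q, hq0, hpq, hqH⟩ := exists_partner hQ hpn hp hpH
    have hcp : ∀ d : F, Q (d • p) = 0 := fun d => by rw [map_smul_sq, hp, mul_zero]
    obtain ⟨g1, hg1K, hg1, hg1'⟩ := refl_step hR (a := c • p) (b := q) (by rw [hcp, hq0])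
      (by rw [map_sub_polar, hcp, hq0, polar_smul_right, polar_comm, hpq]; simpa using hc)
    obtain ⟨g2, hg2K, hg2, hg2'⟩ := refl_step hR (a := q) (b := (c + 1) • p) (by rw [hcp, hq0])
      (by
        rw [map_sub_polar, hcp, hq0, polar_smul_left, hpq]
        intro h0'
        apply hc1
        rw [smul_eq_mul] at h0'
        linear_combination -h0')
    have hfix : ∀ h ∈ H, (g2 * g1) h = h := fun h hh => by
      rw [LinearEquiv.mul_apply, hg1' h, hg2' h]
      · rw [polar_sub_left, polar_smul_left, hqH h hh, hpH h hh]; simp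
      · rw [polar_sub_left, polar_smul_left, hqH h hh, hpH h hh]; simp
    refine ⟨g2 * g1, K.mul_mem hg2K hg1K, ?_, hfix⟩
    rw [hu'2, ← hsum, map_add, hfix h0 hh0, LinearEquiv.mul_apply, hg1, hg2]
  · obtain ⟨w, hw, hwH⟩ := exists_polar_vec hQ hmem
    have hwp : polar Q p (-w) = 0 := by
      rw [polar_neg_right, polar_comm,
        hwH p (Submodule.mem_sup_right (Submodule.mem_span_singleton_self p)), neg_zero]
    obtain ⟨g, hgK, hg⟩ := hE p (-w) hp hwp
    refine ⟨g, hgK, ?_, fun h hh => ?_⟩
    · rw [hg, hup, polar_neg_left, hw, hu'eq]; simp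
    · rw [hg, hpH h hh, polar_neg_left, hwH h (Submodule.mem_sup_left hh)]; simp

/-- Witt's theorem inside a group `K` of isometries containing reflections and Eichler maps,
for a linear map defined on the whole space. -/
theorem witt_gen_lin [FiniteDimensional F V] (hQ : (polarBilin Q).Nondegenerate)
    (hK : ∀ g ∈ K, ∀ x, Q (g x) = Q x)
    (hR : ∀ v, Q v ≠ 0 → ∃ g ∈ K, ∀ x, g x = x - (polar Q v x / Q v) • v)
    (hE : ∀ u w, Q u = 0 → polar Q u w = 0 → ∃ g ∈ K, ∀ x,
      g x = x + polar Q u x • w - polar Q w x • u - (Q w * polar Q u x) • u)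
    (X : Submodule F V) (f : V →ₗ[F] V) (hf : ∀ x ∈ X, Q (f x) = Q x)
    (hinj : ∀ x ∈ X, f x = 0 → x = 0) :
    ∃ g ∈ K, ∀ x ∈ X, g x = f x := by
  classical
  obtain ⟨s, rfl⟩ : X.FG := IsNoetherian.noetherian X
  induction s using Finset.induction_on with
  | empty => exact ⟨1, K.one_mem, fun x hx => by simp at hx; simp [hx]⟩
  | insert u s _ ih =>
    have hle : Submodule.span F (s : Set V) ≤ Submodule.span F ((insert u s : Finset V) : Set V) :=
      Submodule.span_mono (by simp)
    have humem : u ∈ Submodule.span F ((insert u s : Finset V) : Set V) :=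
      Submodule.subset_span (by simp)
    obtain ⟨g1, hg1K, hg1⟩ := ih (fun x hx => hf x (hle hx)) (fun x hx => hinj x (hle hx))
    have key : ∀ g : V ≃ₗ[F] V, g u = f u → (∀ h ∈ Submodule.span F (s : Set V), g h = f h) →
        ∀ x ∈ Submodule.span F ((insert u s : Finset V) : Set V), g x = f x := by
      intro g hgu hgs x hx
      rw [Finset.coe_insert, Submodule.mem_span_insert] at hx
      obtain ⟨a, z, hz, rfl⟩ := hx
      rw [map_add, map_add, map_smul, map_smul, hgu, hgs z hz]
    by_cases hu : u ∈ Submodule.span F (s : Set V)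
    · exact ⟨g1, hg1K, key g1 (hg1 u hu) hg1⟩
    have hu' : g1.symm (f u) ∉ Submodule.span F (s : Set V) := by
      intro hm
      have h1 := hg1 _ hm
      rw [LinearEquiv.apply_symm_apply] at h1
      have h2 := hinj (u - g1.symm (f u)) (Submodule.sub_mem _ humem (hle hm))
        (by rw [map_sub, ← h1, sub_self])
      rw [sub_eq_zero] at h2
      exact hu (h2 ▸ hm)
    obtain ⟨g2, hg2K, hg2, hg2'⟩ := witt_step hQ hR hE hu hu'
      (by rw [← hK g1 hg1K, LinearEquiv.apply_symm_apply, hf u humem])
      (fun h hh => by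
        rw [← polar_map_equiv (hK g1 hg1K), LinearEquiv.apply_symm_apply, hg1 h hh,
          polar_map_of_mem hf humem (hle hh)])
    refine ⟨g1 * g2, K.mul_mem hg1K hg2K, key _ ?_ fun h hh => ?_⟩
    · rw [LinearEquiv.mul_apply, hg2, LinearEquiv.apply_symm_apply]
    · rw [LinearEquiv.mul_apply, hg2' h hh, hg1 h hh]

/-- Witt's theorem inside a group `K` of isometries containing reflections and Eichler maps. -/
theorem witt_gen [FiniteDimensional F V] (hQ : (polarBilin Q).Nondegenerate)
    (hK : ∀ g ∈ K, ∀ x, Q (g x) = Q x)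
    (hR : ∀ v, Q v ≠ 0 → ∃ g ∈ K, ∀ x, g x = x - (polar Q v x / Q v) • v)
    (hE : ∀ u w, Q u = 0 → polar Q u w = 0 → ∃ g ∈ K, ∀ x,
      g x = x + polar Q u x • w - polar Q w x • u - (Q w * polar Q u x) • u)
    (X : Submodule F V) (φ : X →ₗ[F] V) (hφ : ∀ x : X, Q (φ x) = Q x)
    (hinj : Function.Injective φ) :
    ∃ g ∈ K, ∀ x : X, g x = φ x := by
  obtain ⟨f, hf⟩ := φ.exists_extend
  have hf' : ∀ x : X, f x = φ x := fun x => by rw [← hf]; rfl
  obtain ⟨g, hgK, hg⟩ := witt_gen_lin hQ hK hR hE X f
    (fun x hx => by rw [hf' ⟨x, hx⟩, hφ])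
    (fun x hx h0 => by
      rw [hf' ⟨x, hx⟩, ← map_zero φ] at h0
      exact congrArg Subtype.val (hinj h0))
  exact ⟨g, hgK, fun x => by rw [hg x x.2, hf']⟩

/-- A group of isometries containing the reflections and the Eichler maps contains every
isometry. -/
theorem mem_of_isometry [FiniteDimensional F V] (hQ : (polarBilin Q).Nondegenerate)
    (hK : ∀ g ∈ K, ∀ x, Q (g x) = Q x)
    (hR : ∀ v, Q v ≠ 0 → ∃ g ∈ K, ∀ x, g x = x - (polar Q v x / Q v) • v)
    (hE : ∀ u w, Q u = 0 → polar Q u w = 0 → ∃ g ∈ K, ∀ x,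
      g x = x + polar Q u x • w - polar Q w x • u - (Q w * polar Q u x) • u)
    (f : V ≃ₗ[F] V) (hf : ∀ x, Q (f x) = Q x) : f ∈ K := by
  obtain ⟨g, hgK, hg⟩ := witt_gen_lin hQ hK hR hE ⊤ (f : V →ₗ[F] V) (fun x _ => hf x)
    (fun x _ h => by simpa using h)
  have : g = f := LinearEquiv.ext fun x => hg x trivial
  exact this ▸ hgK

end Gen

/-- The group of all linear isometries of `Q`. -/
def isomGrp (Q : QuadraticForm F V) : Subgroup (V ≃ₗ[F] V) where
  carrier := {g | ∀ x, Q (g x) = Q x}
  mul_mem' {a b} ha hb x := by rw [LinearEquiv.mul_apply, ha, hb]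
  one_mem' _ := rfl
  inv_mem' {a} ha x := by
    have := ha (a⁻¹ x)
    rw [← this, ← LinearEquiv.mul_apply, mul_inv_cancel]; rfl

theorem mem_isomGrp {Q : QuadraticForm F V} {g : V ≃ₗ[F] V} :
    g ∈ isomGrp Q ↔ ∀ x, Q (g x) = Q x := Iff.rfl

/-- Witt's extension theorem for an injective `Q`-preserving linear map on a subspace. -/
theorem witt [FiniteDimensional F V] {Q : QuadraticForm F V} (hQ : (polarBilin Q).Nondegenerate)
    (X : Submodule F V) (φ : X →ₗ[F] V) (hφ : ∀ x : X, Q (φ x) = Q x)
    (hinj : Function.Injective φ) :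
    ∃ g : V ≃ₗ[F] V, (∀ x, Q (g x) = Q x) ∧ ∀ x : X, g x = φ x :=
  witt_gen (K := isomGrp Q) hQ (fun _ h => h)
    (fun v hv => ⟨reflEquiv Q v hv, map_reflEquiv Q v hv, reflEquiv_apply Q v hv⟩)
    (fun u w hu huw => ⟨eichlerEquiv Q u w hu huw, map_eichlerEquiv Q u w hu huw,
      eichlerEquiv_apply Q u w hu huw⟩) X φ hφ hinj

/-- Witt's extension theorem for a linear map of the whole space that is an injective isometry
on a subspace. -/
theorem witt_lin [FiniteDimensional F V] {Q : QuadraticForm F V}
    (hQ : (polarBilin Q).Nondegenerate) (X : Submodule F V) (f : V →ₗ[F] V)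
    (hf : ∀ x ∈ X, Q (f x) = Q x) (hinj : ∀ x ∈ X, f x = 0 → x = 0) :
    ∃ g : V ≃ₗ[F] V, (∀ x, Q (g x) = Q x) ∧ ∀ x ∈ X, g x = f x :=
  witt_gen_lin (K := isomGrp Q) hQ (fun _ h => h)
    (fun v hv => ⟨reflEquiv Q v hv, map_reflEquiv Q v hv, reflEquiv_apply Q v hv⟩)
    (fun u w hu huw => ⟨eichlerEquiv Q u w hu huw, map_eichlerEquiv Q u w hu huw,
      eichlerEquiv_apply Q u w hu huw⟩) X f hf hinj

/-- Witt's extension theorem for a linear equivalence between two subspaces. -/
theorem witt_equiv [FiniteDimensional F V] {Q : QuadraticForm F V}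
    (hQ : (polarBilin Q).Nondegenerate) (X Y : Submodule F V) (φ : X ≃ₗ[F] Y)
    (hφ : ∀ x : X, Q (φ x : V) = Q (x : V)) :
    ∃ g : V ≃ₗ[F] V, (∀ v : V, Q (g v) = Q v) ∧ ∀ x : X, g (x : V) = (φ x : V) :=
  witt hQ X (Y.subtype ∘ₗ (φ : X →ₗ[F] Y)) hφ (Y.injective_subtype.comp φ.injective)

/-- Witt's theorem for linearly independent families with the same Gram data. -/
theorem witt_family [FiniteDimensional F V] {Q : QuadraticForm F V}
    (hQ : (polarBilin Q).Nondegenerate) {ι : Type*} {a b : ι → V}
    (ha : LinearIndependent F a) (hb : LinearIndependent F b)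
    (h1 : ∀ i, Q (b i) = Q (a i)) (h2 : ∀ i j, polar Q (b i) (b j) = polar Q (a i) (a j)) :
    ∃ g : V ≃ₗ[F] V, (∀ v : V, Q (g v) = Q v) ∧ ∀ i, g (a i) = b i := by
  classical
  let φ : Submodule.span F (Set.range a) →ₗ[F] V := (Basis.span ha).constr F b
  have hφa : ∀ i, φ (Basis.span ha i) = b i := fun i => Basis.constr_basis _ _ _ _
  have hφ : ∀ l : ι →₀ F, φ ((Basis.span ha).repr.symm l) = Finsupp.linearCombination F b l := by
    intro l
    rw [Basis.repr_symm_apply, Finsupp.apply_linearCombination]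
    congr 2
    ext i
    exact hφa i
  have hval : ∀ l : ι →₀ F, (((Basis.span ha).repr.symm l : Submodule.span F (Set.range a)) : V)
      = Finsupp.linearCombination F a l := by
    intro l
    rw [Basis.repr_symm_apply, ← Submodule.subtype_apply, Finsupp.apply_linearCombination]
    congr 2
    ext i
    simp
  have hQl : ∀ l : ι →₀ F,
      Q (Finsupp.linearCombination F b l) = Q (Finsupp.linearCombination F a l) := by
    have hp : ∀ (i : ι) (l : ι →₀ F), polar Q (b i) (Finsupp.linearCombination F b l)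
        = polar Q (a i) (Finsupp.linearCombination F a l) := by
      intro i l
      induction l using Finsupp.induction_linear with
      | zero => simp
      | add f g hf hg => rw [map_add, map_add, polar_add_right, polar_add_right, hf, hg]
      | single j c => simp [h2]
    intro l
    induction l using Finsupp.induction with
    | zero => simp
    | single_add j c l _ _ ih =>
      rw [LinearMap.map_add, LinearMap.map_add, map_add_polar, map_add_polar, ih]
      simp [map_smul_sq, h1, hp]
  obtain ⟨g, hg, hg'⟩ := witt hQ _ φ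
    (fun x => by
      obtain ⟨l, rfl⟩ := (Basis.span ha).repr.symm.surjective x
      rw [hφ, hval, hQl])
    (by
      rw [injective_iff_map_eq_zero]
      intro x hx
      obtain ⟨l, rfl⟩ := (Basis.span ha).repr.symm.surjective x
      rw [hφ] at hx
      rw [linearIndependent_iff.1 hb l hx, map_zero])
  refine ⟨g, hg, fun i => ?_⟩
  rw [← hφa, ← hg']
  simp

/-- The isometry group is transitive on non-zero vectors of a given norm. -/
theorem witt_single [FiniteDimensional F V] {Q : QuadraticForm F V}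
    (hQ : (polarBilin Q).Nondegenerate) {a b : V} (ha : a ≠ 0) (hb : b ≠ 0) (h : Q b = Q a) :
    ∃ g : V ≃ₗ[F] V, (∀ v : V, Q (g v) = Q v) ∧ g a = b := by
  obtain ⟨g, hg, hg'⟩ := witt_family hQ (ι := Unit) (a := fun _ => a) (b := fun _ => b)
    (linearIndependent_unique_iff.2 ha) (linearIndependent_unique_iff.2 hb)
    (fun _ => h) (fun _ _ => by rw [polar_self_eq, polar_self_eq, h])
  exact ⟨g, hg, hg' ()⟩

end CL.QuadF
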