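import Cfsg.Agent.QuadF.Std
import Cfsg.Agent.Auto.ACL_QuadF_reflEquiv_6e109e

/-!
# The two families of maximal totally singular subspaces of a hyperbolic space
-/

set_option autoImplicit false

namespace CL.QuadF

open Module QuadraticMap

variable {F V : Type*} [Field F] [AddCommGroup V] [Module F V] [FiniteDimensional F V]
  {Q : QuadraticForm F V}

/-- A subspace not inside the hyperplane `v ^ ⊥` meets it in codimension one. -/
theorem finrank_inf_perp_add_one (Q : QuadraticForm F V) {A : Submodule F V} {v x : V}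
    (hx : x ∈ A) (hxv : polar Q v x ≠ 0) :
    finrank F (A ⊓ perp Q (F ∙ v) : Submodule F V) + 1 = finrank F A := by
  have hx0 : x ≠ 0 := by rintro rfl; simp at hxv
  have hsup : (A ⊓ perp Q (F ∙ v)) ⊔ (F ∙ x) = A := by
    refine le_antisymm (sup_le inf_le_left ((Submodule.span_singleton_le_iff_mem _ _).2 hx))
      fun y hy => ?_
    refine Submodule.mem_sup.2 ⟨y - (polar Q v y / polar Q v x) • x,
      ⟨A.sub_mem hy (A.smul_mem _ hx), mem_perp_singleton.2 ?_⟩, (polar Q v y / polar Q v x) • x,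
      Submodule.smul_mem _ _ (Submodule.mem_span_singleton_self x), by simp⟩
    rw [polar_sub_right, polar_smul_right, smul_eq_mul, div_mul_cancel₀ _ hxv, sub_self]
  have hinf : (A ⊓ perp Q (F ∙ v)) ⊓ (F ∙ x) = ⊥ := by
    rw [eq_bot_iff]
    rintro y ⟨⟨-, h1⟩, h2⟩
    obtain ⟨a, rfl⟩ := Submodule.mem_span_singleton.1 h2
    have := mem_perp_singleton.1 h1
    rw [polar_smul_right, smul_eq_mul] at this
    simp [(mul_eq_zero.1 this).resolve_right hxv]
  have := Submodule.finrank_sup_add_finrank_inf_eq (A ⊓ perp Q (F ∙ v)) (F ∙ x)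
  rw [hsup, hinf, finrank_bot, finrank_span_singleton hx0] at this
  omega

omit [FiniteDimensional F V] in
theorem reflEquiv_of_polar_eq_zero {v : V} (hv : Q v ≠ 0) {x : V} (hx : polar Q v x = 0) :
    reflEquiv Q v hv x = x := by
  rw [reflEquiv_apply, hx]; simp

omit [FiniteDimensional F V] in
theorem reflEquiv_reflEquiv {v : V} (hv : Q v ≠ 0) (x : V) :
    reflEquiv Q v hv (reflEquiv Q v hv x) = x := reflLin_reflLin Q hv x

omit [FiniteDimensional F V] in
theorem polar_reflEquiv_self {v : V} (hv : Q v ≠ 0) (x : V) :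
    polar Q v (reflEquiv Q v hv x) = -polar Q v x := by
  rw [reflEquiv_apply, polar_sub_right, polar_smul_right, polar_self_eq, smul_eq_mul]
  field_simp
  ring

omit [FiniteDimensional F V] in
theorem mem_map_reflEquiv {v : V} (hv : Q v ≠ 0) {W : Submodule F V} {x : V} :
    x ∈ W.map (reflEquiv Q v hv : V →ₗ[F] V) ↔ reflEquiv Q v hv x ∈ W := by
  constructor
  · rintro ⟨y, hy, rfl⟩
    simpa [reflEquiv_reflEquiv] using hy
  · intro h
    exact ⟨_, h, reflEquiv_reflEquiv hv x⟩

/-- A reflection changes the dimension of the intersection of two maximal totally singular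
subspaces of a hyperbolic space by one. -/
theorem finrank_inf_refl (hQ : (polarBilin Q).Nondegenerate) {U W : Submodule F V}
    (hU : ∀ w ∈ U, Q w = 0) (hW : ∀ w ∈ W, Q w = 0) (hUd : 2 * finrank F U = finrank F V)
    (hWd : 2 * finrank F W = finrank F V) {v : V} (hv : Q v ≠ 0) :
    finrank F (U ⊓ W.map (reflEquiv Q v hv : V →ₗ[F] V) : Submodule F V) + 1
        = finrank F (U ⊓ W : Submodule F V) ∨
      finrank F (U ⊓ W.map (reflEquiv Q v hv : V →ₗ[F] V) : Submodule F V)
        = finrank F (U ⊓ W : Submodule F V) + 1 := by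
  set W' := W.map (reflEquiv Q v hv : V →ₗ[F] V) with hW'
  have hP : U ⊓ W' ⊓ perp Q (F ∙ v) = U ⊓ W ⊓ perp Q (F ∙ v) := by
    ext x
    simp only [Submodule.mem_inf, mem_perp_singleton, hW', mem_map_reflEquiv]
    refine and_congr_left fun hx => ?_
    rw [reflEquiv_of_polar_eq_zero hv hx]
  by_cases h1 : ∃ x ∈ U ⊓ W, polar Q v x ≠ 0
  · obtain ⟨x, hx, hxv⟩ := h1
    left
    have h2 : U ⊓ W' ≤ perp Q (F ∙ v) := by
      rintro y ⟨hyU, hyW⟩
      rw [mem_perp_singleton]
      have h3 := polar_eq_zero_of_ts hW hx.2 ((mem_map_reflEquiv hv).1 hyW)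
      rw [reflEquiv_apply, polar_sub_right, polar_smul_right, polar_eq_zero_of_ts hU hx.1 hyU,
        polar_comm Q x v] at h3
      simpa [hxv, hv] using h3
    rw [← finrank_inf_perp_add_one Q hx hxv, ← hP, inf_eq_left.2 h2]
  · right
    push Not at h1
    have h2 : U ⊓ W ≤ perp Q (F ∙ v) := fun x hx => mem_perp_singleton.2 (h1 x hx)
    have h3 : v ∈ U ⊔ W := by
      rw [← perp_eq_of_ts hQ hU hUd, ← perp_eq_of_ts hQ hW hWd, ← perp_inf hQ]
      exact mem_perp'.2 h1
    obtain ⟨u, hu, w, hw, huw⟩ := Submodule.mem_sup.1 h3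
    have hQv : Q v = polar Q u w := by rw [← huw, map_add_polar, hU u hu, hW w hw]; ring
    have hvu : polar Q v u = Q v := by
      rw [hQv, ← huw, polar_add_left, polar_eq_zero_of_ts hU hu hu, polar_comm Q w u, zero_add]
    have hu' : u ∈ U ⊓ W' := by
      refine ⟨hu, (mem_map_reflEquiv hv).2 ?_⟩
      rw [reflEquiv_apply, hvu, div_self hv, one_smul, ← huw]
      simpa using hw
    rw [← finrank_inf_perp_add_one Q hu' (hvu ▸ hv), hP, inf_eq_left.2 h2]

/-- Two distinct maximal totally singular subspaces of a hyperbolic space are brought closer by a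
reflection. -/
theorem exists_refl_finrank_inf (hQ : (polarBilin Q).Nondegenerate) {U W : Submodule F V}
    (hU : ∀ w ∈ U, Q w = 0) (hW : ∀ w ∈ W, Q w = 0) (hUd : 2 * finrank F U = finrank F V)
    (hWd : 2 * finrank F W = finrank F V) (hne : ¬ U ≤ W) :
    ∃ (v : V) (hv : Q v ≠ 0),
      finrank F (U ⊓ W.map (reflEquiv Q v hv : V →ₗ[F] V) : Submodule F V)
        = finrank F (U ⊓ W : Submodule F V) + 1 := by
  obtain ⟨u, hu, huW⟩ := Set.not_subset.1 hne
  have : ∃ w ∈ W, polar Q w u ≠ 0 := by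
    by_contra hc
    push Not at hc
    exact huW (perp_eq_of_ts hQ hW hWd ▸ mem_perp.2 hc)
  obtain ⟨w, hw, hwu⟩ := this
  have hv : Q (u - w) ≠ 0 := by
    rw [map_sub_polar, hU u hu, hW w hw, polar_comm]; simpa using hwu
  refine ⟨u - w, hv, (finrank_inf_refl hQ hU hW hUd hWd hv).resolve_left fun h => ?_⟩
  have hle : U ⊓ W ≤ U ⊓ W.map (reflEquiv Q (u - w) hv : V →ₗ[F] V) := by
    rintro x ⟨hxU, hxW⟩
    refine ⟨hxU, (mem_map_reflEquiv hv).2 ?_⟩
    rw [reflEquiv_of_polar_eq_zero hv]
    · exact hxW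
    · rw [polar_sub_left, polar_eq_zero_of_ts hU hu hxU, polar_eq_zero_of_ts hW hw hxW, sub_zero]
  have := Submodule.finrank_mono hle
  omega

/-- The parity relation between three maximal totally singular subspaces of a hyperbolic
space. -/
theorem even_codim_sum (hQ : (polarBilin Q).Nondegenerate) {m : ℕ} (hV : finrank F V = 2 * m)
    {U W X : Submodule F V} (hU : ∀ w ∈ U, Q w = 0) (hW : ∀ w ∈ W, Q w = 0)
    (hX : ∀ w ∈ X, Q w = 0) (hUd : finrank F U = m) (hWd : finrank F W = m)
    (hXd : finrank F X = m) :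
    Even ((m - finrank F (U ⊓ W : Submodule F V)) + (m - finrank F (W ⊓ X : Submodule F V))
      + (m - finrank F (U ⊓ X : Submodule F V))) := by
  obtain ⟨k, hk⟩ : ∃ k, m - finrank F (W ⊓ X : Submodule F V) = k := ⟨_, rfl⟩
  induction k generalizing X with
  | zero =>
    have h1 : W ⊓ X = X := Submodule.eq_of_le_of_finrank_le inf_le_right (by omega)
    have h2 : W ⊓ X = W := Submodule.eq_of_le_of_finrank_le inf_le_left (by omega)
    rw [hk, ← h1, h2]
    simp
  | succ k ih =>
    have hne : ¬ W ≤ X := fun h => by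
      rw [inf_eq_left.2 h] at hk
      omega
    obtain ⟨v, hv, hvd⟩ := exists_refl_finrank_inf hQ hW hX (by omega) (by omega) hne
    have h1 := ih (ts_map (map_reflEquiv Q v hv) hX) (by rw [LinearEquiv.finrank_map_eq, hXd])
      (by omega)
    have h2 := finrank_inf_refl hQ hU hX (by omega) (by omega) hv
    have h3 : finrank F (U ⊓ X : Submodule F V) ≤ m := hUd ▸ Submodule.finrank_mono inf_le_left
    have h4 : finrank F (U ⊓ X.map (reflEquiv Q v hv : V →ₗ[F] V) : Submodule F V) ≤ m :=
      hUd ▸ Submodule.finrank_mono inf_le_left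
    rw [Nat.even_iff] at h1 ⊢
    omega

/-- In a hyperbolic space of positive dimension there are two maximal totally singular subspaces
meeting in a hyperplane of each. -/
theorem exists_adjacent_ts (hQ : (polarBilin Q).Nondegenerate) {m : ℕ} (hm : 1 ≤ m)
    (hV : finrank F V = 2 * m) {U : Submodule F V} (hU : ∀ w ∈ U, Q w = 0)
    (hUd : finrank F U = m) :
    ∃ W : Submodule F V, (∀ w ∈ W, Q w = 0) ∧ finrank F W = m ∧
      finrank F (U ⊓ W : Submodule F V) + 1 = m := by
  have : Nontrivial V := Module.nontrivial_of_finrank_pos (R := F) (by omega)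
  obtain ⟨v, hv⟩ := exists_nonsingular hQ
  refine ⟨_, ts_map (map_reflEquiv Q v hv) hU, by rw [LinearEquiv.finrank_map_eq, hUd], ?_⟩
  have h2 := finrank_inf_refl hQ hU hU (by omega) (by omega) hv
  have h4 : finrank F (U ⊓ U.map (reflEquiv Q v hv : V →ₗ[F] V) : Submodule F V) ≤ m :=
    hUd ▸ Submodule.finrank_mono inf_le_left
  rw [inf_idem] at h2
  omega

theorem finrank_sup_span_singleton {U : Submodule F V} {x : V} (hx : x ∉ U) :
    finrank F (U ⊔ F ∙ x : Submodule F V) = finrank F U + 1 := by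
  have hx0 : x ≠ 0 := by rintro rfl; exact hx U.zero_mem
  have := Submodule.finrank_sup_add_finrank_inf_eq U (F ∙ x)
  rw [(Submodule.disjoint_span_singleton_of_notMem hx).eq_bot, finrank_bot,
    finrank_span_singleton hx0] at this
  omega

/-- In a hyperbolic space, a totally singular subspace of codimension one in a maximal one lies in
exactly two maximal totally singular subspaces. -/
theorem exists_two_ts_of_submaximal (hQ : (polarBilin Q).Nondegenerate) {m : ℕ}
    (hV : finrank F V = 2 * m) {W₀ : Submodule F V} (hW₀ : ∀ w ∈ W₀, Q w = 0)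
    (hW₀d : finrank F W₀ = m) {U : Submodule F V} (hU : ∀ w ∈ U, Q w = 0)
    (hUd : finrank F U + 1 = m) :
    ∃ W₁ W₂ : Submodule F V, W₁ ≠ W₂ ∧ ∀ W : Submodule F V,
      (finrank F W = m ∧ (∀ w ∈ W, Q w = 0) ∧ U ≤ W) ↔ (W = W₁ ∨ W = W₂) := by
  obtain ⟨W, hUW, hW, hWd⟩ := exists_ts_ge hQ hU hW₀ (by omega)
  obtain ⟨w, hw, hwU⟩ : ∃ w ∈ W, w ∉ U := by
    by_contra hc
    push Not at hc
    have := Submodule.finrank_mono (show W ≤ U from hc)
    omega
  have hwp : ∀ h ∈ U, polar Q w h = 0 := fun h hh => polar_eq_zero_of_ts hW hw (hUW hh)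
  obtain ⟨x, hx0, hwx, hxU⟩ := exists_partner hQ hwU (hW w hw) hwp
  have hxU' : x ∉ U := fun h => by rw [hwp x h] at hwx; exact zero_ne_one hwx
  have hmk : ∀ y, Q y = 0 → y ∉ U → (∀ h ∈ U, polar Q y h = 0) →
      finrank F (U ⊔ F ∙ y : Submodule F V) = m ∧ (∀ w ∈ U ⊔ F ∙ y, Q w = 0) ∧ U ≤ U ⊔ F ∙ y :=
    fun y hy0 hyU hyp => ⟨by rw [finrank_sup_span_singleton hyU, hUd],
      ts_sup hU (ts_span_singleton hy0)
        ((Submodule.span_singleton_le_iff_mem _ _).2 (mem_perp'.2 hyp)), le_sup_left⟩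
  have hxw : x ∉ U ⊔ F ∙ w := fun h => by
    rw [polar_eq_zero_of_ts (hmk w (hW w hw) hwU hwp).2.1
      (Submodule.mem_sup_right (Submodule.mem_span_singleton_self w)) h] at hwx
    exact zero_ne_one hwx
  have hperp : (U ⊔ F ∙ w) ⊔ F ∙ x = perp Q U := by
    refine Submodule.eq_of_le_of_finrank_eq (sup_le (sup_le (le_perp_of_ts hU) ?_) ?_) ?_
    · exact (Submodule.span_singleton_le_iff_mem _ _).2 (mem_perp'.2 hwp)
    · exact (Submodule.span_singleton_le_iff_mem _ _).2 (mem_perp'.2 hxU)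
    · have := finrank_add_finrank_perp hQ U
      rw [finrank_sup_span_singleton hxw, finrank_sup_span_singleton hwU]
      omega
  refine ⟨U ⊔ F ∙ w, U ⊔ F ∙ x, fun h => hxw ?_, fun Y => ⟨?_, ?_⟩⟩
  · rw [h]; exact Submodule.mem_sup_right (Submodule.mem_span_singleton_self x)
  · rintro ⟨hYd, hY, hUY⟩
    obtain ⟨y, hy, hyU⟩ : ∃ y ∈ Y, y ∉ U := by
      by_contra hc
      push Not at hc
      have := Submodule.finrank_mono (show Y ≤ U from hc)
      omega
    have hyp : y ∈ perp Q U := perp_anti hUY (le_perp_of_ts hY hy)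
    rw [← hperp] at hyp
    obtain ⟨z, hz, z', hz', rfl⟩ := Submodule.mem_sup.1 hyp
    obtain ⟨u, hu, z'', hz'', rfl⟩ := Submodule.mem_sup.1 hz
    obtain ⟨b, rfl⟩ := Submodule.mem_span_singleton.1 hz'
    obtain ⟨a, rfl⟩ := Submodule.mem_span_singleton.1 hz''
    have hy' : a • w + b • x ∈ Y := by
      have := Y.sub_mem hy (hUY hu)
      rwa [add_assoc, add_sub_cancel_left] at this
    have hab : a * b = 0 := by
      have := hY _ hy'
      rw [map_add_polar, map_smul_sq, map_smul_sq, hW w hw, hx0, polar_smul_left,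
        polar_smul_right, hwx] at this
      simpa using this
    have key : ∀ (c : F) (t : V), t ∉ U → u + c • t ∈ Y → u + c • t ∉ U → Y = U ⊔ F ∙ t := by
      intro c t ht h1 h2
      have hc : c ≠ 0 := by rintro rfl; exact h2 (by simpa using hu)
      have h3 : t ∈ Y := by
        have := Y.smul_mem c⁻¹ (Y.sub_mem h1 (hUY hu))
        rwa [add_sub_cancel_left, inv_smul_smul₀ hc] at this
      refine (Submodule.eq_of_le_of_finrank_eq
        (sup_le hUY ((Submodule.span_singleton_le_iff_mem _ _).2 h3)) ?_).symm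
      rw [finrank_sup_span_singleton ht]; omega
    rcases mul_eq_zero.1 hab with rfl | rfl
    · right
      exact key b x hxU' (by simpa using hy) (by simpa using hyU)
    · left
      exact key a w hwU (by simpa using hy) (by simpa using hyU)
  · rintro (rfl | rfl)
    · exact hmk w (hW w hw) hwU hwp
    · exact hmk x hx0 hxU' hxU

end CL.QuadF
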