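import Cfsg.Agent.QuadF.Std
import Cfsg.Agent.Orth.Bridge

/-!
# Corollaries on orthogonal groups: subgroups of index two, generation by special elements
-/

set_option autoImplicit false

namespace CL.QuadF

open Module QuadraticMap CL.Orth

theorem closure_preimage_mulEquiv {G H : Type*} [Group G] [Group H] (e : G ≃* H) (S : Set H) :
    Subgroup.closure (e ⁻¹' S) = (Subgroup.closure S).comap (e : G →* H) := by
  apply Subgroup.map_injective (f := (e : G →* H)) e.injective
  rw [MonoidHom.map_closure, Subgroup.map_comap_eq_self_of_surjective e.surjective]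
  congr 1
  exact Set.image_preimage_eq S e.surjective

/-- A group whose commutator subgroup has index four and contains all squares has exactly three
subgroups of index two. -/
theorem card_index_two_of_index_commutator {G : Type*} [Group G] (h4 : (commutator G).index = 4)
    (hsq : ∀ g : G, g * g ∈ commutator G) : Nat.card {H : Subgroup G // H.index = 2} = 3 := by
  classical
  have hcard : Nat.card (G ⧸ commutator G) = 4 := h4
  have hfin : Finite (G ⧸ commutator G) := Nat.finite_of_card_ne_zero (by omega)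
  have hexp : ∀ x : G ⧸ commutator G, x * x = 1 := by
    intro x
    obtain ⟨g, rfl⟩ := QuotientGroup.mk_surjective x
    rw [← QuotientGroup.mk_mul, QuotientGroup.eq_one_iff]
    exact hsq g
  have hord : ∀ x : G ⧸ commutator G, x ≠ 1 → orderOf x = 2 := fun x hx =>
    orderOf_eq_prime (by rw [pow_two, hexp]) hx
  have hidx : ∀ x : G ⧸ commutator G, x ≠ 1 → (Subgroup.zpowers x).index = 2 := by
    intro x hx
    have := (Subgroup.zpowers x).card_mul_index
    rw [Nat.card_zpowers, hord x hx, hcard] at this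
    omega
  let f : {x : G ⧸ commutator G // x ≠ 1} → {H : Subgroup G // H.index = 2} := fun x =>
    ⟨(Subgroup.zpowers x.1).comap (QuotientGroup.mk' _), by
      rw [Subgroup.index_comap_of_surjective _ (QuotientGroup.mk'_surjective _), hidx x.1 x.2]⟩
  have hmem : ∀ x y : G ⧸ commutator G, y ∈ Subgroup.zpowers x → y = 1 ∨ y = x := by
    rintro x _ ⟨k, rfl⟩
    have h2 : x ^ (2 : ℤ) = 1 := by rw [zpow_two, hexp]
    rcases Int.even_or_odd' k with ⟨j, rfl | rfl⟩
    · left; simp only [zpow_mul, h2, one_zpow]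
    · right; simp only [zpow_add, zpow_mul, h2, one_zpow, one_mul, zpow_one]
  have hf : Function.Bijective f := by
    constructor
    · intro x y h
      have h1 := Subgroup.comap_injective (QuotientGroup.mk'_surjective _) (congrArg Subtype.val h)
      have h2 : x.1 ∈ Subgroup.zpowers y.1 := h1 ▸ Subgroup.mem_zpowers x.1
      exact Subtype.ext ((hmem _ _ h2).resolve_left x.2)
    · rintro ⟨H, hH⟩
      have : H.Normal := Subgroup.normal_of_index_eq_two hH
      have hle : commutator G ≤ H := by
        have : Fact (Nat.Prime 2) := ⟨Nat.prime_two⟩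
        have hc : IsCyclic (G ⧸ H) := isCyclic_of_prime_card (p := 2) hH
        exact Subgroup.Normal.quotient_commutative_iff_commutator_le.1
          ⟨⟨fun a b => (IsCyclic.commGroup (α := G ⧸ H)).mul_comm a b⟩⟩
      have hK : (H.map (QuotientGroup.mk' (commutator G))).index = 2 := by
        rw [← Subgroup.index_comap_of_surjective _ (QuotientGroup.mk'_surjective _),
          Subgroup.comap_map_eq_self (by simpa using hle), hH]
      have hKc : Nat.card (H.map (QuotientGroup.mk' (commutator G))) = 2 := by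
        have := (H.map (QuotientGroup.mk' (commutator G))).card_mul_index
        rw [hK, hcard] at this
        omega
      obtain ⟨x, hx⟩ : ∃ x : H.map (QuotientGroup.mk' (commutator G)), x ≠ 1 := by
        have := Finite.one_lt_card_iff_nontrivial.1 (hKc ▸ one_lt_two)
        exact exists_ne 1
      have hx1 : (x : G ⧸ commutator G) ≠ 1 := fun h => hx (Subtype.ext h)
      refine ⟨⟨x, hx1⟩, Subtype.ext ?_⟩
      have : Subgroup.zpowers (x : G ⧸ commutator G) = H.map (QuotientGroup.mk' (commutator G)) :=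
        Subgroup.eq_of_le_of_card_ge (by simp) (by rw [hKc, Nat.card_zpowers, hord _ hx1])
      simp only [f, this]
      exact Subgroup.comap_map_eq_self (by simpa using hle)
  rw [← Nat.card_eq_of_bijective f hf]
  have := Fintype.ofFinite (G ⧸ commutator G)
  rw [Nat.card_eq_fintype_card, Fintype.card_subtype_compl, ← Nat.card_eq_fintype_card, hcard]
  simp

variable {F V : Type*} [Field F] [AddCommGroup V] [Module F V] [FiniteDimensional F V]
  {Q : QuadraticForm F V}

/-- Squares of isometries lie in the commutator subgroup. -/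
theorem mul_self_mem_commutator (hQ : (polarBilin Q).Nondegenerate) (hT : Tame Q) (g : O Q) :
    g * g ∈ commutator (O Q) := by
  have : Abelianization.of g * Abelianization.of g = 1 := by
    refine refl_induction hQ hT (p := fun g => Abelianization.of g * Abelianization.of g = 1)
      (by simp) (fun v g _ hg => ?_) g
    rw [map_mul, mul_mul_mul_comm, hg, mul_one, ← map_mul, refl_mul_self, map_one]
  rw [← map_mul] at this
  exact (QuotientGroup.eq_one_iff _).1 this

/-- A normal subgroup containing the squares of products of two reflections contains the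
commutator subgroup. -/
theorem commutator_le_of_sq_mem (hQ : (polarBilin Q).Nondegenerate) (hT : Tame Q)
    (K : Subgroup (O Q)) [K.Normal]
    (h : ∀ u v, Q u ≠ 0 → Q v ≠ 0 → (refl Q u * refl Q v) * (refl Q u * refl Q v) ∈ K) :
    commutator (O Q) ≤ K := by
  rw [← Subgroup.Normal.quotient_commutative_iff_commutator_le]
  have h1 : ∀ u v, Q u ≠ 0 → Q v ≠ 0 →
      Commute (QuotientGroup.mk (refl Q u) : O Q ⧸ K) (QuotientGroup.mk (refl Q v)) := by
    intro u v hu hv
    rw [commute_iff_eq, ← QuotientGroup.mk_mul, ← QuotientGroup.mk_mul, eq_comm, QuotientGroup.eq,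
      mul_inv_rev, refl_inv, refl_inv]
    exact h u v hu hv
  have h2 : ∀ u, Q u ≠ 0 → ∀ g : O Q,
      Commute (QuotientGroup.mk (refl Q u) : O Q ⧸ K) (QuotientGroup.mk g) := by
    intro u hu g
    refine refl_induction hQ hT (p := fun g =>
      Commute (QuotientGroup.mk (refl Q u) : O Q ⧸ K) (QuotientGroup.mk g)) (by simp)
      (fun v g hv hg => ?_) g
    rw [QuotientGroup.mk_mul]
    exact (h1 u v hu hv).mul_right hg
  refine ⟨⟨fun a b => ?_⟩⟩
  obtain ⟨a, rfl⟩ := QuotientGroup.mk_surjective a
  obtain ⟨b, rfl⟩ := QuotientGroup.mk_surjective b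
  refine refl_induction hQ hT (p := fun a =>
    Commute (QuotientGroup.mk a : O Q ⧸ K) (QuotientGroup.mk b)) (by simp) (fun v g hv hg => ?_) a
  rw [QuotientGroup.mk_mul]
  exact (h2 v hv b).mul_left hg

/-- The kernel of the Dickson sign is generated by the products of two reflections. -/
theorem mem_closure_two_refl_iff (hQ : (polarBilin Q).Nondegenerate) (hT : Tame Q) (g : O Q) :
    g ∈ Subgroup.closure {g : O Q | ∃ u v, Q u ≠ 0 ∧ Q v ≠ 0 ∧ g = refl Q u * refl Q v} ↔
      dsign g = 1 := by
  set K := Subgroup.closure {g : O Q | ∃ u v, Q u ≠ 0 ∧ Q v ≠ 0 ∧ g = refl Q u * refl Q v}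
  constructor
  · intro hg
    have : K ≤ (dickson hQ hT).ker := by
      rw [Subgroup.closure_le]
      rintro _ ⟨u, v, hu, hv, rfl⟩
      rw [SetLike.mem_coe, MonoidHom.mem_ker, map_mul, dickson_refl hQ hT hu, dickson_refl hQ hT hv]
      simp
    exact this hg
  · have key : ∀ g : O Q, (dsign g = 1 → g ∈ K) ∧
        (dsign g = -1 → ∀ u, Q u ≠ 0 → refl Q u * g ∈ K) := by
      intro g
      refine refl_induction hQ hT (p := fun g => (dsign g = 1 → g ∈ K) ∧
        (dsign g = -1 → ∀ u, Q u ≠ 0 → refl Q u * g ∈ K)) ⟨fun _ => K.one_mem, fun h => ?_⟩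
        (fun v g hv hg => ?_) g
      · rw [dsign_one] at h
        exact absurd h (by decide)
      · rw [dsign_refl_mul hQ g hv]
        refine ⟨fun h => hg.2 (by rw [← h, neg_neg]) v hv, fun h u hu => ?_⟩
        rw [← mul_assoc]
        exact K.mul_mem (Subgroup.subset_closure ⟨u, v, hu, hv, rfl⟩) (hg.1 (neg_injective h))
    exact (key g).1

theorem det_eq_one_iff_dsign (h2 : (2 : F) ≠ 0) (hQ : (polarBilin Q).Nondegenerate) (g : O Q) :
    LinearMap.det (g.1 : V →ₗ[F] V) = 1 ↔ dsign g = 1 := by
  rw [det_eq_dsign hQ (tame_of_two_ne_zero h2 hQ)]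
  rcases Int.units_eq_one_or (dsign g) with h | h <;> rw [h]
  · simp
  · have : (-1 : F) ≠ 1 := fun h => h2 (by linear_combination -h)
    simpa using this

/-- An isometry fixing a hyperplane pointwise is trivial or a reflection. -/
theorem exists_eq_refl_of_fix (hQ : (polarBilin Q).Nondegenerate) (g : O Q)
    (h : finrank F (fix g) + 1 = finrank F V) : ∃ v, Q v ≠ 0 ∧ g = refl Q v := by
  obtain ⟨x, hx⟩ : ∃ x, x ∉ fix g := by
    by_contra hc
    push Not at hc
    rw [show fix g = ⊤ from eq_top_iff.2 fun x _ => hc x, finrank_top] at h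
    omega
  have hsup : fix g ⊔ F ∙ x = ⊤ := by
    refine Submodule.eq_top_of_finrank_eq ?_
    have := Submodule.finrank_sup_add_finrank_inf_eq (fix g) (F ∙ x)
    rw [(Submodule.disjoint_span_singleton_of_notMem hx).eq_bot, finrank_bot,
      finrank_span_singleton (by rintro rfl; exact hx (fix g).zero_mem)] at this
    omega
  have hdec : ∀ y, ∃ z ∈ fix g, ∃ a : F, y = z + a • x := by
    intro y
    obtain ⟨z, hz, w, hw, rfl⟩ := Submodule.mem_sup.1 (hsup ▸ Submodule.mem_top : y ∈ fix g ⊔ F ∙ x)
    obtain ⟨a, rfl⟩ := Submodule.mem_span_singleton.1 hw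
    exact ⟨z, hz, a, rfl⟩
  have hp : Q (x - g.1 x) ≠ 0 := by
    intro h0
    apply hx
    rw [mem_fix, ← sub_eq_zero]
    refine eq_zero_of_polar hQ fun y => ?_
    obtain ⟨z, hz, a, rfl⟩ := hdec y
    have h1 : polar Q (g.1 x - x) x = 0 := by
      rw [map_sub_polar, O_map] at h0
      rw [polar_sub_left, polar_self_eq, polar_comm]
      linear_combination -h0
    rw [polar_add_right, polar_smul_right, h1, polar_comm, polar_sub_of_mem_fix hz]
    simp
  refine ⟨x - g.1 x, hp, O_ext fun y => ?_⟩
  obtain ⟨z, hz, a, rfl⟩ := hdec y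
  rw [map_add, map_add, map_smul, map_smul, refl_sub_apply (O_map g x).symm hp, mem_fix.1 hz,
    refl_apply_of_orth]
  rw [← neg_sub, polar_neg_left, polar_comm, polar_sub_of_mem_fix hz, neg_zero]

/-- Over a finite field in dimension at least five every Eichler transformation is a product of
Siegel transformations. -/
theorem E_eq_closure_siegel [Finite F] (hQ : (polarBilin Q).Nondegenerate) (h5 : 5 ≤ finrank F V) :
    E Q = Subgroup.closure
      {g : O Q | ∃ u w, Q u = 0 ∧ Q w = 0 ∧ polar Q u w = 0 ∧ g = eich Q u w} := by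
  refine le_antisymm (E_le fun u w hu huw => ?_) ((Subgroup.closure_le _).2 ?_)
  · have hw : w ∈ Submodule.span F {v | v ∈ perp Q (F ∙ u) ∧ Q v = 0} := by
      rw [span_singular_perp hQ h5]; exact mem_perp_singleton.2 huw
    have hle : Submodule.span F {v | v ∈ perp Q (F ∙ u) ∧ Q v = 0} ≤ perp Q (F ∙ u) :=
      Submodule.span_le.2 fun v hv => hv.1
    have key : ∀ c : F, eich Q u (c • w) ∈ Subgroup.closure
        {g : O Q | ∃ u w, Q u = 0 ∧ Q w = 0 ∧ polar Q u w = 0 ∧ g = eich Q u w} := by
      clear huw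
      induction hw using Submodule.span_induction with
      | mem y hy =>
        intro c
        refine Subgroup.subset_closure ⟨u, c • y, hu, by rw [map_smul_sq, hy.2, mul_zero], ?_, rfl⟩
        rw [polar_smul_right, mem_perp_singleton.1 hy.1, smul_zero]
      | zero => intro c; rw [smul_zero, eich_zero]; exact Subgroup.one_mem _
      | add y z hy hz hy' hz' =>
        intro c
        rw [smul_add, eich_add hu
          (by rw [polar_smul_right, mem_perp_singleton.1 (hle hy), smul_zero])
          (by rw [polar_smul_right, mem_perp_singleton.1 (hle hz), smul_zero])]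
        exact Subgroup.mul_mem _ (hy' c) (hz' c)
      | smul a y _ hy => intro c; rw [smul_smul]; exact hy _
    simpa using key 1
  · rintro _ ⟨u, w, -, -, -, rfl⟩
    exact eich_mem_E u w

/-- In odd characteristic every Siegel transformation is a commutator. -/
theorem eich_mem_commutatorSet (h2 : (2 : F) ≠ 0) (hQ : (polarBilin Q).Nondegenerate) {u w : V}
    (hu : Q u = 0) (hw : Q w = 0) (huw : polar Q u w = 0) : eich Q u w ∈ commutatorSet (O Q) := by
  by_cases hu0 : u = 0
  · rw [hu0, eich_zero_left]; exact one_mem_commutatorSet _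
  by_cases hm : w ∈ F ∙ u
  · obtain ⟨a, rfl⟩ := Submodule.mem_span_singleton.1 hm
    rw [eich_smul_self]; exact one_mem_commutatorSet _
  have hli : LinearIndependent F ![u, w] := by
    rw [LinearIndependent.pair_iff' hu0]
    intro a ha
    exact hm (Submodule.mem_span_singleton.2 ⟨a, ha⟩)
  have hli' : LinearIndependent F ![-u, w] := by
    rw [LinearIndependent.pair_iff' (neg_ne_zero.2 hu0)]
    intro a ha
    exact hm (Submodule.mem_span_singleton.2 ⟨-a, by rw [← ha]; simp⟩)
  obtain ⟨g, hg, hg'⟩ := witt_family hQ hli hli' (fun i => by fin_cases i <;> simp)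
    (fun i j => by
      fin_cases i <;> fin_cases j <;> simp [huw, polar_comm Q w u])
  have hgu : g u = -u := hg' 0
  have hgw : g w = w := hg' 1
  refine ⟨⟨g, hg⟩, eich Q u ((-2⁻¹ : F) • w), ?_⟩
  have hp : ∀ c : F, polar Q u (c • w) = 0 := fun c => by rw [polar_smul_right, huw, smul_zero]
  rw [commutatorElement_def, eich_conj, map_smul, hgu, hgw, ← neg_one_smul F u,
    eich_smul_left (by simp), ← eich_neg, smul_smul, ← neg_smul, ← eich_add hu (hp _) (hp _),
    ← add_smul]
  congr 1
  have : (-1 * -2⁻¹ + - -2⁻¹ : F) = 1 := by field_simp; ring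
  rw [this, one_smul]

/-- In a plane the product of three reflections is a reflection. -/
theorem exists_refl_eq_three (hQ : (polarBilin Q).Nondegenerate) (hV : finrank F V = 2)
    {u v w : V} (hu : Q u ≠ 0) (hv : Q v ≠ 0) (hw : Q w ≠ 0) :
    ∃ y, Q y ≠ 0 ∧ refl Q u * refl Q v * refl Q w = refl Q y := by
  refine exists_eq_refl_of_fix hQ _ ?_
  have h1 : dsign (refl Q u * refl Q v * refl Q w) = -1 := by
    rw [dsign_mul_refl hQ _ hw, dsign_mul_refl hQ _ hv, dsign_refl hQ hu, neg_neg]
  have h2 := (fix (refl Q u * refl Q v * refl Q w)).finrank_le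
  rw [dsign, hV] at h1
  rw [hV] at h2 ⊢
  generalize finrank F (fix (refl Q u * refl Q v * refl Q w)) = k at h1 h2 ⊢
  interval_cases k
  · exact absurd h1 (by decide)
  · rfl
  · exact absurd h1 (by decide)

/-- A vector with prescribed norm and prescribed inner products with a pair having invertible Gram
matrix, in dimension at least four. -/
theorem exists_vec_of_gram [Finite F] (hQ : (polarBilin Q).Nondegenerate) (h4 : 4 ≤ finrank F V)
    {u w : V} (h : polar Q u u * polar Q w w - polar Q u w ^ 2 ≠ 0) (a b c : F) :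
    ∃ x, Q x = c ∧ polar Q u x = a ∧ polar Q w x = b := by
  have hd := disjoint_perp_pair h
  have hdim := finrank_add_finrank_perp hQ (Submodule.span F {u, w})
  have h2 := finrank_span_pair_le (F := F) u w
  set D := polar Q u u * polar Q w w - polar Q u w ^ 2 with hD
  set x₀ := ((a * polar Q w w - b * polar Q u w) / D) • u
    + ((b * polar Q u u - a * polar Q u w) / D) • w with hx₀
  have h1 : polar Q u x₀ = a := by
    rw [hx₀, polar_add_right, polar_smul_right, polar_smul_right, smul_eq_mul, smul_eq_mul]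
    field_simp
    rw [hD]; ring
  have h3 : polar Q w x₀ = b := by
    rw [hx₀, polar_add_right, polar_smul_right, polar_smul_right, smul_eq_mul, smul_eq_mul,
      polar_comm Q w u]
    field_simp
    rw [hD]; ring
  obtain ⟨y, hy, hQy⟩ := exists_map_eq_mem (Q := Q) (X := perp Q (Submodule.span F {u, w}))
    (by rw [perp_perp hQ]; exact hd.symm) (by omega) (c - Q x₀)
  have hyu : polar Q u y = 0 := mem_perp_span.1 hy u (by simp)
  have hyw : polar Q w y = 0 := mem_perp_span.1 hy w (by simp)
  refine ⟨x₀ + y, ?_, by rw [polar_add_right, h1, hyu, add_zero],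
    by rw [polar_add_right, h3, hyw, add_zero]⟩
  rw [map_add_polar, hQy, hx₀, polar_add_left, polar_smul_left, polar_smul_left, hyu, hyw]
  simp

/-- The degenerate case: `z` singular and perpendicular to the non-singular `u`. -/
theorem exists_vec_of_degenerate (h2 : (2 : F) ≠ 0) (hQ : (polarBilin Q).Nondegenerate)
    {u z : V} (hu : Q u ≠ 0) (hz : z ≠ 0) (hz0 : Q z = 0) (huz : polar Q u z = 0) {a e : F}
    (he : e ≠ 0) (c : F) : ∃ x, Q x = c ∧ polar Q u x = a ∧ polar Q z x = e := by
  have hzu : z ∉ F ∙ u := by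
    intro hm
    obtain ⟨t, rfl⟩ := Submodule.mem_span_singleton.1 hm
    rw [map_smul_sq, mul_eq_zero] at hz0
    rcases hz0 with h | h
    · exact hz (by rw [pow_eq_zero_iff two_ne_zero] at h; simp [h])
    · exact hu h
  obtain ⟨z', hz'0, hzz', hz'u⟩ := exists_partner hQ hzu hz0 (fun h hh => by
    obtain ⟨t, rfl⟩ := Submodule.mem_span_singleton.1 hh
    rw [polar_smul_right, polar_comm, huz, smul_zero])
  have huz' : polar Q u z' = 0 := by
    rw [polar_comm]; exact hz'u u (Submodule.mem_span_singleton_self u)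
  refine ⟨(a / (2 * Q u)) • u + e • z' + ((c - (a / (2 * Q u)) ^ 2 * Q u) / e) • z, ?_, ?_, ?_⟩
  · qsimp [hz0, hz'0, huz, huz', polar_comm Q z' z, hzz']
    field_simp
    ring
  · qsimp [huz, huz']
    field_simp
    ring
  · qsimp [hz0, polar_comm Q z u, huz, hzz']
    ring

/-- The degenerate case in dimension at least five. -/
theorem exists_vec_of_degenerate' [Finite F] (h2 : (2 : F) ≠ 0)
    (hQ : (polarBilin Q).Nondegenerate) (h5 : 5 ≤ finrank F V) {u z : V} (hu : Q u ≠ 0)
    (hz : z ≠ 0) (hz0 : Q z = 0) (huz : polar Q u z = 0) (c : F) :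
    ∃ x, Q x = c ∧ polar Q u x = 0 ∧ polar Q z x = 0 := by
  have hu2 : polar Q u u ≠ 0 := by rw [polar_self_eq]; exact mul_ne_zero h2 hu
  have hnd := nondeg_restr_perp hQ (disjoint_perp_singleton hu2)
  have hdim := finrank_perp_singleton hQ (ne_zero_of_map_ne_zero hu)
  let z₁ : perp Q (F ∙ u) := ⟨z, mem_perp_singleton.2 huz⟩
  obtain ⟨z', hz'0, hzz'⟩ := exists_hyperbolic_partner hnd (p := z₁)
    (fun h => hz (congrArg Subtype.val h)) hz0
  obtain ⟨x, hx, hx1, -⟩ := exists_vec_of_gram hnd (by omega)
    (gram_hyperbolic_ne_zero (u := z₁) (v := z') hz0 (by rw [hzz']; exact one_ne_zero)) 0 0 c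
  exact ⟨x, hx, mem_perp_singleton.1 x.2, hx1⟩

/-- The reflections in vectors whose norms lie in a fixed square class generate a subgroup of
index two (odd characteristic; dimension `2`, at least `5`, or `4` over a field with more than
three elements). -/
theorem index_closure_refl_class [Finite F] (h2 : (2 : F) ≠ 0)
    (hQ : (polarBilin Q).Nondegenerate)
    (hn : finrank F V = 2 ∨ 5 ≤ finrank F V ∨ (finrank F V = 4 ∧ Nat.card F ≠ 3)) {c : F}
    (hc : c ≠ 0) :
    (Subgroup.closure {g : O Q | ∃ (v : V) (t : F), t ≠ 0 ∧ Q v = c * t ^ 2 ∧ g = refl Q v}).index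
      = 2 := by
  classical
  have := Fintype.ofFinite F
  set K := Subgroup.closure {g : O Q | ∃ (v : V) (t : F), t ≠ 0 ∧ Q v = c * t ^ 2 ∧ g = refl Q v}
  have hT := tame_of_two_ne_zero h2 hQ
  have hcl : ∀ v, Q v ≠ 0 → IsSquare (c * Q v) → refl Q v ∈ K := by
    rintro v hv ⟨r, hr⟩
    have hr0 : r ≠ 0 := by rintro rfl; exact mul_ne_zero hc hv (by simpa using hr)
    exact Subgroup.subset_closure ⟨v, r / c, div_ne_zero hr0 hc,
      by field_simp; linear_combination hr, rfl⟩
  have hN : K.Normal := by
    refine ⟨fun n hn g => ?_⟩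
    have : K ≤ K.comap (MulAut.conj g).toMonoidHom := by
      rw [Subgroup.closure_le]
      rintro _ ⟨v, t, ht, hv, rfl⟩
      change g * refl Q v * g⁻¹ ∈ K
      rw [refl_conj]
      exact Subgroup.subset_closure ⟨g.1 v, t, ht, by rw [O_map, hv], rfl⟩
    exact this hn
  obtain ⟨θ, hθ, -, -⟩ := exists_spin_odd h2 hQ
  have hθ' : ∀ v, Q v ≠ 0 → ((θ (refl Q v) : ℤ)) = quadraticChar F (Q v) := by
    intro v hv
    by_cases hs : IsSquare (Q v)
    · rw [(hθ v hv).2 hs, (quadraticChar_one_iff_isSquare hv).2 hs]; rfl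
    · rw [(Int.units_eq_one_or _).resolve_left fun h => hs ((hθ v hv).1 h),
        quadraticChar_neg_one_iff_not_isSquare.2 hs]; rfl
  -- a homomorphism with the prescribed values on reflections
  obtain ⟨χ, hχ⟩ : ∃ χ : O Q →* ℤˣ, ∀ v, Q v ≠ 0 →
      ((χ (refl Q v) : ℤ)) = quadraticChar F (c * Q v) := by
    by_cases hs : IsSquare c
    · refine ⟨θ, fun v hv => ?_⟩
      rw [hθ' v hv, map_mul, (quadraticChar_one_iff_isSquare hc).2 hs, one_mul]
    · refine ⟨θ * dickson hQ hT, fun v hv => ?_⟩
      rw [MonoidHom.mul_apply, Units.val_mul, hθ' v hv, map_mul, dickson_refl hQ hT hv,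
        quadraticChar_neg_one_iff_not_isSquare.2 hs]
      simp
  have hKχ : K ≤ χ.ker := by
    rw [Subgroup.closure_le]
    rintro _ ⟨v, t, ht, hv, rfl⟩
    have hv0 : Q v ≠ 0 := by rw [hv]; exact mul_ne_zero hc (pow_ne_zero _ ht)
    rw [SetLike.mem_coe, MonoidHom.mem_ker, ← Units.val_eq_one, hχ v hv0,
      quadraticChar_one_iff_isSquare (mul_ne_zero hc hv0)]
    exact ⟨c * t, by rw [hv]; ring⟩
  have hnotin : ∀ v, Q v ≠ 0 → ¬ IsSquare (c * Q v) → refl Q v ∉ K := by
    intro v hv hs hm
    have := hχ v hv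
    rw [MonoidHom.mem_ker.1 (hKχ hm), quadraticChar_neg_one_iff_not_isSquare.2 hs] at this
    exact absurd this (by decide)
  -- direct moves
  have hmove : ∀ u x, Q u = Q x → (Q (u - x) ≠ 0 ∧ IsSquare (c * Q (u - x))) ∨
      (Q (u + x) ≠ 0 ∧ IsSquare (c * Q (u + x))) → refl Q u * refl Q x ∈ K := by
    have h0 : ∀ u x, Q u = Q x → Q (u - x) ≠ 0 → IsSquare (c * Q (u - x)) →
        refl Q u * refl Q x ∈ K := by
      intro u x hux h1 h3
      have hk := hcl _ h1 h3
      have : refl Q x = refl Q (u - x) * refl Q u * (refl Q (u - x))⁻¹ := by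
        rw [refl_conj, refl_sub_apply hux h1]
      rw [this, ← mul_assoc, ← mul_assoc]
      refine K.mul_mem ?_ (K.inv_mem hk)
      simpa only [refl_inv] using hN.conj_mem _ hk (refl Q u)
    rintro u x hux (⟨h1, h3⟩ | ⟨h1, h3⟩)
    · exact h0 u x hux h1 h3
    · rw [← refl_neg x]
      exact h0 u (-x) (by rw [QuadraticMap.map_neg, hux]) (by rwa [sub_neg_eq_add])
        (by rwa [sub_neg_eq_add])
  have hmove' : ∀ (u x : V) (t : F), t ≠ 0 → Q u = Q x →
      (polar Q u x = 2 * Q u - c * t ^ 2 ∨ polar Q u x = -(2 * Q u - c * t ^ 2)) →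
      refl Q u * refl Q x ∈ K := by
    intro u x t ht hux h
    have hne : c * t ^ 2 ≠ 0 := mul_ne_zero hc (pow_ne_zero _ ht)
    have hsq : IsSquare (c * (c * t ^ 2)) := ⟨c * t, by ring⟩
    refine hmove u x hux (h.imp (fun h => ?_) (fun h => ?_))
    · have : Q (u - x) = c * t ^ 2 := by rw [map_sub_polar, h, ← hux]; ring
      rw [this]; exact ⟨hne, hsq⟩
    · have : Q (u + x) = c * t ^ 2 := by rw [map_add_polar, h, ← hux]; ring
      rw [this]; exact ⟨hne, hsq⟩
  have htrans : ∀ u w x : V, refl Q u * refl Q x ∈ K → refl Q w * refl Q x ∈ K →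
      refl Q u * refl Q w ∈ K := by
    intro u w x h1 h3
    have := K.mul_mem h1 (K.inv_mem h3)
    rwa [mul_inv_rev, refl_inv, refl_inv, mul_assoc, ← mul_assoc (refl Q x), refl_mul_self,
      one_mul] at this
  -- two reflections of the other class with the same norm are congruent
  have hsame : ∀ u w, Q u ≠ 0 → ¬ IsSquare (c * Q u) → Q w = Q u → refl Q u * refl Q w ∈ K := by
    intro u w hu hs hw
    have hw0 : Q w ≠ 0 := hw ▸ hu
    rcases hn with hn | hn
    · obtain ⟨v, hv⟩ := exists_map_eq hQ hn.ge c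
      have hv0 : Q v ≠ 0 := hv ▸ hc
      obtain ⟨y, hy, hy'⟩ := exists_refl_eq_three hQ hn hv0 hu hw0
      have h1 := congrArg (fun g => ((χ g : ℤˣ) : ℤ)) hy'
      simp only [map_mul χ, Units.val_mul, hχ v hv0, hχ u hu, hχ w hw0, hχ y hy, hw,
        quadraticChar_neg_one_iff_not_isSquare.2 hs, hv,
        (quadraticChar_one_iff_isSquare (mul_ne_zero hc hc)).2 ⟨c, rfl⟩] at h1
      have h3 := hcl y hy ((quadraticChar_one_iff_isSquare (mul_ne_zero hc hy)).1 (by
        rw [← h1]; norm_num))
      have h4 := K.mul_mem (hcl v hv0 (by rw [hv]; exact ⟨c, rfl⟩)) h3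
      rwa [← hy', ← mul_assoc, ← mul_assoc, refl_mul_self, one_mul] at h4
    have h4 : 4 ≤ finrank F V := by omega
    have hdeg : ∀ w, Q w = Q u → polar Q u w = 2 * Q u → refl Q u * refl Q w ∈ K := by
      intro w hw huw
      by_cases hz : w - u = 0
      · rw [sub_eq_zero.1 hz, refl_mul_self]; exact K.one_mem
      have hz0 : Q (w - u) = 0 := by rw [map_sub_polar, polar_comm, huw, hw]; ring
      have huz : polar Q u (w - u) = 0 := by rw [polar_sub_right, huw, polar_self_eq, sub_self]
      by_cases ht : ∃ t : F, t ≠ 0 ∧ 2 * Q u - c * t ^ 2 ≠ 0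
      · obtain ⟨t, ht, ha⟩ := ht
        obtain ⟨x, hx, hux, hzx⟩ := exists_vec_of_degenerate h2 hQ hu hz hz0 huz
          (a := 2 * Q u - c * t ^ 2) (e := -2 * (2 * Q u - c * t ^ 2))
          (mul_ne_zero (neg_ne_zero.2 h2) ha) (Q u)
        refine htrans u w x (hmove' u x t ht hx.symm (Or.inl hux))
          (hmove' w x t ht (hw.trans hx.symm) (Or.inr ?_))
        rw [polar_sub_left, hux] at hzx
        rw [hw]; linear_combination hzx
      · push Not at ht
        have h5 : 5 ≤ finrank F V := by
          refine hn.resolve_right fun h => h.2 ?_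
          have hall : ∀ t : F, t = 0 ∨ t = 1 ∨ t = -1 := by
            intro t
            by_cases h0 : t = 0
            · exact Or.inl h0
            · right
              have h3 : c * (t ^ 2 - 1) = 0 := by
                linear_combination ht 1 one_ne_zero - ht t h0
              have h5 := (mul_eq_zero.1 h3).resolve_left hc
              exact mul_self_eq_one_iff.1 (by linear_combination h5)
          have h11 : (1 : F) ≠ -1 := fun h => h2 (by linear_combination h)
          have : (Finset.univ : Finset F) = {0, 1, -1} := by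
            ext t; simpa using hall t
          rw [Nat.card_eq_fintype_card, ← Finset.card_univ, this, Finset.card_eq_three]
          exact ⟨0, 1, -1, zero_ne_one, by simp, h11, rfl⟩
        obtain ⟨x, hx, hux, hzx⟩ := exists_vec_of_degenerate' h2 hQ h5 hu hz hz0 huz (Q u)
        have ha := ht 1 one_ne_zero
        refine htrans u w x (hmove' u x 1 one_ne_zero hx.symm (Or.inl (by rw [hux, ha])))
          (hmove' w x 1 one_ne_zero (hw.trans hx.symm) (Or.inl ?_))
        rw [polar_sub_left, hux, sub_zero] at hzx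
        rw [hw, ha, hzx]
    by_cases hg : polar Q u u * polar Q w w - polar Q u w ^ 2 = 0
    · rw [polar_self_eq, polar_self_eq, hw] at hg
      have : (polar Q u w - 2 * Q u) * (polar Q u w + 2 * Q u) = 0 := by linear_combination -hg
      rcases mul_eq_zero.1 this with h | h
      · exact hdeg w hw (by linear_combination h)
      · rw [← refl_neg w]
        exact hdeg (-w) (by rw [QuadraticMap.map_neg, hw])
          (by rw [polar_neg_right]; linear_combination -h)
    · obtain ⟨x, hx, hux, hwx⟩ := exists_vec_of_gram hQ h4 hg (2 * Q u - c * 1 ^ 2)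
        (2 * Q u - c * 1 ^ 2) (Q u)
      exact htrans u w x (hmove' u x 1 one_ne_zero hx.symm (Or.inl hux))
        (hmove' w x 1 one_ne_zero (hw.trans hx.symm) (Or.inl (by rw [hwx, hw])))
  have hother : ∀ u w, Q u ≠ 0 → Q w ≠ 0 → ¬ IsSquare (c * Q u) → ¬ IsSquare (c * Q w) →
      refl Q u * refl Q w ∈ K := by
    intro u w hu hw hsu hsw
    obtain ⟨r, hr⟩ := isSquare_mul_of_not_isSquare hsu hsw
    have hr0 : r ≠ 0 := by
      rintro rfl
      exact mul_ne_zero (mul_ne_zero hc hu) (mul_ne_zero hc hw) (by simpa using hr)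
    rw [← refl_smul (a := r / (c * Q w)) (div_ne_zero hr0 (mul_ne_zero hc hw)) w]
    refine hsame u _ hu hsu ?_
    rw [map_smul_sq]
    field_simp
    linear_combination -hr
  obtain ⟨α, hα⟩ := FiniteField.exists_nonsquare (ringChar_ne_two_of h2)
  obtain ⟨u, hu⟩ := exists_map_eq hQ (by omega) (α / c)
  have hα0 : α ≠ 0 := by rintro rfl; exact hα IsSquare.zero
  have hu0 : Q u ≠ 0 := by rw [hu]; exact div_ne_zero hα0 hc
  have hsu : ¬ IsSquare (c * Q u) := by rwa [hu, mul_div_cancel₀ _ hc]
  rw [Subgroup.index_eq_two_iff]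
  refine ⟨refl Q u, fun b => ?_⟩
  have hor : b * refl Q u ∈ K ∨ b ∈ K := by
    refine refl_induction hQ hT (p := fun b => b * refl Q u ∈ K ∨ b ∈ K) (Or.inr K.one_mem)
      (fun v g hv hg => ?_) b
    by_cases hs : IsSquare (c * Q v)
    · refine hg.imp (fun h => ?_) (fun h => K.mul_mem (hcl v hv hs) h)
      rw [mul_assoc]; exact K.mul_mem (hcl v hv hs) h
    · have h1 := hother v u hv hu0 hs hsu
      refine hg.symm.imp (fun h => ?_) (fun h => ?_)
      · have := K.mul_mem (hN.conj_mem _ h (refl Q v)) h1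
        rwa [refl_inv, mul_assoc, ← mul_assoc (refl Q v) (refl Q v), refl_mul_self, one_mul] at this
      · have := K.mul_mem h1 (hN.conj_mem _ h (refl Q u))
        rwa [refl_inv, mul_assoc (refl Q u), mul_assoc g, refl_mul_self, mul_one, mul_assoc,
          ← mul_assoc (refl Q u), refl_mul_self, one_mul] at this
  have hnand : ¬ (b * refl Q u ∈ K ∧ b ∈ K) := fun h =>
    hnotin u hu0 hsu (by simpa using K.mul_mem (K.inv_mem h.2) h.1)
  rcases hor with h | h
  · exact Or.inl ⟨h, fun h' => hnand ⟨h, h'⟩⟩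
  · exact Or.inr ⟨h, fun h' => hnand ⟨h', h⟩⟩

end CL.QuadF
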